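import Cfsg.Agent.H74.Monster.Move
import Cfsg.Agent.H92.QuotLarge
import Cfsg.Agent.Components.PLocal

/-!
In a group of Monster type the centraliser of an involution of the large group outside the class of
the central involution, modulo that involution, is of Baby Monster type.
-/

set_option autoImplicit false

namespace Cfsg.Agent.H74.Monster

open Cfsg Cfsg.Agent.Golay Cfsg.Agent.H92.LeechTwo Cfsg.Agent.H92.MonsterQ

theorem repA_eq_leechU : repA = Spor.leechU := Subtype.ext rfl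

theorem perp_iff (x : leechLattice) : x ∈ leechPerpU ↔ d8 x Spor.leechU = 0 := by
  show (16 : ℤ) ∣ dt x Spor.leechU ↔ _
  rw [d8, ZMod.intCast_zmod_eq_zero_iff_dvd]
  have := eight_dvd_dt x Spor.leechU
  constructor <;> intro h <;> omega

theorem d8_smul (g : Co0) (x y : leechLattice) : d8 (g • x) (g • y) = d8 x y := by
  simp only [d8, dt]
  rw [co0_dot]

theorem zmod2_cases : ∀ c : ZMod 2, c = 0 ∨ c = 1 := by decide

theorem zmod2_one_add : (1 : ZMod 2) + 1 = 0 := by decide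

theorem mult2_cases : ∀ c : Multiplicative (ZMod 2), c = 1 ∨ c = Multiplicative.ofAdd 1 := by decide

theorem exists_d8_one : ∃ a, d8 Spor.leechU a = 1 := ⟨repC, by decide +kernel⟩

/-- the second group inside the isometry group -/
def incCoTwo : Spor.Co2 →* Co0 := Subgroup.inclusion inf_le_left

theorem incCoTwo_fix (g : Spor.Co2) : incCoTwo g • Spor.leechU = Spor.leechU := g.2.2

theorem incCoTwo_smul (g : Spor.Co2) (x : leechLattice) : incCoTwo g • x = g • x := rfl

theorem exists_coTwo {γ : Co0} (h : γ • Spor.leechU = Spor.leechU) :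
    ∃ g : Spor.Co2, incCoTwo g = γ :=
  ⟨⟨γ.1, γ.2, h⟩, rfl⟩

theorem coTwo_ext {g g' : Spor.Co2}
    (h : (QuotientGroup.mk (incCoTwo g) : Spor.Co1) = QuotientGroup.mk (incCoTwo g')) : g = g' := by
  have h1 := QuotientGroup.eq.1 h
  have h2 := co0_central_fix h1 (u := Spor.leechU) (by decide +kernel) (by
    rw [mul_smul, incCoTwo_fix, inv_smul_eq_iff, incCoTwo_fix])
  exact Subgroup.inclusion_injective inf_le_left (inv_mul_eq_one.1 h2)

variable {G : Type*} [Group G] [Finite G] {z : G}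
  {Q : Subgroup (Subgroup.centralizer ({z} : Set G))} [Q.Normal]
  {e : (Subgroup.centralizer ({z} : Set G)) ⧸ Q ≃* Spor.Co1}
  {ψ : leechLattice → Q ⧸ Subgroup.center Q}

/-- an element pairing trivially with the orthogonal of `w` and with one further class is central -/
theorem central_of_perp (S : Setting z Q e ψ) {u a v : leechLattice} {q : Q}
    (hq : ψ v = QuotientGroup.mk q) (ha : d8 u a = 1) (hva : d8 v a = 0)
    (h : ∀ x, d8 u x = 0 → d8 v x = 0) : q ∈ Subgroup.center Q := by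
  refine Subgroup.mem_center_iff.2 fun b => ?_
  obtain ⟨x, hx⟩ := S.iso.2.1 (QuotientGroup.mk b)
  have hvx : d8 x v = 0 := by
    rw [d8_comm]
    have h2 : ∀ c : ZMod 2, c = 0 ∨ c = 1 := by decide
    rcases h2 (d8 u x) with hh | hh
    · exact h x hh
    · have h3 : d8 u (x + a) = 0 := by
        rw [d8_comm, d8_add, d8_comm, hh, d8_comm, ha]; decide
      have h4 := h _ h3
      rw [d8_comm, d8_add, d8_comm a v, hva, add_zero, d8_comm] at h4
      exact h4
  have := (forms S).2 x v b q hx hq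
  rw [hvx, dl_eq_zero] at this
  exact mul_inv_eq_iff_eq_mul.1 (mul_inv_eq_one.1 this)

theorem babyType (S : Setting z Q e ψ) {tQ : Q} (hu : ψ Spor.leechU = QuotientGroup.mk tQ)
    (ht2 : tQ * tQ = 1) {t : G} (ht : vG tQ = t)
    [((Subgroup.zpowers t).subgroupOf (Subgroup.centralizer ({t} : Set G))).Normal] :
    IsOfBabyMonsterType (↥(Subgroup.centralizer ({t} : Set G)) ⧸
      (Subgroup.zpowers t).subgroupOf (Subgroup.centralizer ({t} : Set G))) := by
  classical
  haveI : Fact (Nat.Prime 2) := ⟨Nat.prime_two⟩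
  obtain ⟨zQ, hzv, hz1, hz2, hZ⟩ := exists_zQ S
  obtain ⟨hzQm, hconj⟩ := map_setting S
  set Qm := Q.map (Subgroup.centralizer ({z} : Set G)).subtype with hQm
  have hnu : nrm Spor.leechU = 32 := by decide +kernel
  have htc : tQ ∉ Subgroup.center Q := not_center_of_rep S hu (Or.inl hnu)
  have ht2' : t * t = 1 := by rw [← ht]; exact congrArg vG ht2
  have htne : t ≠ 1 := fun h => htc (by
    rw [show tQ = 1 from vG_injective (ht.trans h)]; exact one_mem _)
  have htz : t * z = z * t := by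
    rw [← ht]; exact Subgroup.mem_centralizer_singleton_iff.1 (tQ : Subgroup.centralizer ({z} : Set G)).2
  have hzt_not : ¬ IsConj z (z * t) := by
    have h1 : ψ Spor.leechU = QuotientGroup.mk (zQ * tQ) := by
      rw [hu, QuotientGroup.mk_mul, (QuotientGroup.eq_one_iff zQ).2 ((hZ zQ).2 (Or.inr rfl)), one_mul]
    have := not_conj_of_short S h1 hnu
    rw [show vG (zQ * tQ) = z * t from congrArg₂ (· * ·) hzv ht] at this
    exact this
  have hz_ne_t : z ≠ t := fun h => htc ((hZ tQ).2 (Or.inr (vG_injective (ht.trans (h.symm.trans hzv.symm)))))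
  set Ct := Subgroup.centralizer ({t} : Set G) with hCt
  set T := (Subgroup.zpowers t).subgroupOf Ct with hT
  have hT' : ∀ a : Ct, a ∈ T ↔ (a : G) = 1 ∨ (a : G) = t := by
    intro a
    rw [hT, Subgroup.mem_subgroupOf]
    have ho : orderOf t = 2 := orderOf_eq_prime (by rw [pow_two, ht2']) htne
    rw [mem_zpowers_iff_mem_range_orderOf, ho]
    simp [Finset.mem_image, Finset.range_add_one, eq_comm, or_comm]
  have hzCt : z ∈ Ct := Subgroup.mem_centralizer_singleton_iff.2 htz.symm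
  set zb : Ct ⧸ T := QuotientGroup.mk ⟨z, hzCt⟩ with hzb
  have hmk : ∀ a b : Ct, (QuotientGroup.mk a : Ct ⧸ T) = QuotientGroup.mk b ↔
      (b : G) = a ∨ (b : G) = a * t := by
    intro a b
    rw [QuotientGroup.eq, hT', Subgroup.coe_mul, Subgroup.coe_inv, inv_mul_eq_one, inv_mul_eq_iff_eq_mul]
    constructor <;> rintro (h | h) <;> simp [h]
  set K : Subgroup G := Subgroup.centralizer ({z} : Set G) ⊓ Ct with hK
  let Φ : K →* Subgroup.centralizer ({zb} : Set (Ct ⧸ T)) := MonoidHom.mk'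
    (fun k => ⟨QuotientGroup.mk ⟨k.1, k.2.2⟩, Subgroup.mem_centralizer_singleton_iff.2 (by
      rw [hzb, ← QuotientGroup.mk_mul, ← QuotientGroup.mk_mul]
      exact congrArg _ (Subtype.ext (Subgroup.mem_centralizer_singleton_iff.1 k.2.1)))⟩)
    fun a b => Subtype.ext rfl
  have hΦs : Function.Surjective Φ := by
    rintro ⟨d, hd⟩
    obtain ⟨h, rfl⟩ := QuotientGroup.mk_surjective d
    have h1 := Subgroup.mem_centralizer_singleton_iff.1 hd
    rw [hzb, ← QuotientGroup.mk_mul, ← QuotientGroup.mk_mul, hmk] at h1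
    simp only [Subgroup.coe_mul] at h1
    have hhC : (h : G) ∈ Subgroup.centralizer ({z} : Set G) := by
      rcases h1 with h1 | h1
      · exact Subgroup.mem_centralizer_singleton_iff.2 h1.symm
      · exfalso
        apply hzt_not
        refine isConj_iff.2 ⟨(h : G)⁻¹, ?_⟩
        rw [inv_inv, mul_assoc, h1]
        group
    exact ⟨⟨h, hhC, h.2⟩, Subtype.ext rfl⟩
  have hΦ1 : ∀ k : K, Φ k = 1 ↔ (k : G) = 1 ∨ (k : G) = t := by
    intro k
    rw [Subtype.ext_iff]
    show (QuotientGroup.mk (⟨k.1, k.2.2⟩ : Ct) : Ct ⧸ T) = 1 ↔ _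
    rw [QuotientGroup.eq_one_iff, hT']
  have hΦeq : ∀ k k' : K, Φ k = Φ k' → (k' : G) = k ∨ (k' : G) = k * t := fun k k' h =>
    (hmk ⟨k.1, k.2.2⟩ ⟨k'.1, k'.2.2⟩).1 (congrArg Subtype.val h)
  -- the part of the large group
  let QK : Subgroup K := Qm.subgroupOf K
  haveI hQKn : QK.Normal := ⟨fun q hq k => hconj _ hq _ k.2.1⟩
  have hQK : ∀ k : K, k ∈ QK → ∃ q : Q, vG q = (k : G) := by
    rintro k ⟨c, hc, hck⟩
    exact ⟨⟨c, hc⟩, hck⟩
  have hcomm_t : ∀ q : Q, vG q ∈ Ct ↔ q * tQ = tQ * q := by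
    intro q
    rw [hCt, Subgroup.mem_centralizer_singleton_iff, ← ht]
    exact ⟨fun h => vG_injective h, fun h => congrArg vG h⟩
  have hd8 : ∀ (v : leechLattice) (q : Q), ψ v = QuotientGroup.mk q →
      (d8 v Spor.leechU = 0 ↔ vG q ∈ Ct) := by
    intro v q hv
    rw [hcomm_t, ← (forms S).2 v _ q tQ hv hu, dl_eq_zero]
    exact ⟨fun h => mul_inv_eq_iff_eq_mul.1 (mul_inv_eq_one.1 h), fun h => by
      rw [h, mul_inv_cancel_right, mul_inv_cancel]⟩
  let toK : ∀ q : Q, vG q ∈ Ct → K := fun q h =>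
    ⟨vG q, (q : Subgroup.centralizer ({z} : Set G)).2, h⟩
  have toK_mem : ∀ q h, toK q h ∈ QK := fun q h => ⟨_, q.2, rfl⟩
  have htK : t ∈ Ct := Subgroup.mem_centralizer_singleton_iff.2 rfl
  -- the homomorphism onto the second group
  let φ : K →* Spor.Co1 :=
    (e.toMonoidHom.comp (QuotientGroup.mk' Q)).comp (Subgroup.inclusion (inf_le_left : K ≤ _))
  have hφker : ∀ k : K, φ k = 1 ↔ k ∈ QK := by
    intro k
    refine ((map_eq_one_iff e e.injective).trans (QuotientGroup.eq_one_iff _)).trans ⟨fun h => ⟨_, h, rfl⟩, ?_⟩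
    rintro ⟨c, hc, hck⟩
    rwa [show Subgroup.inclusion (inf_le_left : K ≤ _) k = c from Subtype.ext hck.symm]
  have hfixu : ∀ k : K, ∃ g : Spor.Co2, (QuotientGroup.mk (incCoTwo g) : Spor.Co1) = φ k := by
    intro k
    obtain ⟨γ, hγ⟩ := QuotientGroup.mk_surjective (φ k)
    have e1 := psi_smul S (g := γ) (h := ⟨k.1, k.2.1⟩) hγ hu
    rw [show conjQ (⟨k.1, k.2.1⟩ : Subgroup.centralizer ({z} : Set G)) tQ = tQ from vG_injective (by
      show (k : G) * vG tQ * (k : G)⁻¹ = vG tQ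
      rw [ht, Subgroup.mem_centralizer_singleton_iff.1 k.2.2, mul_inv_cancel_right]), ← hu, psi_cg S] at e1
    have hn : nrm (γ • Spor.leechU) = 32 := (co0_sqNorm γ _).trans hnu
    rcases short_unique e1 (by omega) with h | h | ⟨h, -⟩
    · obtain ⟨g, rfl⟩ := exists_coTwo h.symm
      exact ⟨g, hγ⟩
    · obtain ⟨N, hN, hNv⟩ := exists_negation
      obtain ⟨g, hg⟩ := exists_coTwo (γ := N * γ) (by rw [mul_smul, hNv]; exact h.symm)
      refine ⟨g, ?_⟩
      rw [hg, QuotientGroup.mk_mul, (QuotientGroup.eq_one_iff N).2 hN, one_mul, hγ]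
    · omega
  choose χf hχf using hfixu
  let χ : K →* Spor.Co2 := MonoidHom.mk' χf fun a b => coTwo_ext (by
    rw [map_mul, QuotientGroup.mk_mul, hχf, hχf, hχf, map_mul])
  have hχ : ∀ k : K, (QuotientGroup.mk (incCoTwo (χ k)) : Spor.Co1) = φ k := hχf
  have hχker : χ.ker = QK := by
    ext k
    rw [MonoidHom.mem_ker, ← hφker, ← hχ]
    refine ⟨fun h => by rw [h, map_one]; rfl, fun h => coTwo_ext ?_⟩
    rw [h, map_one]; rfl
  have hχs : Function.Surjective χ := by
    intro g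
    obtain ⟨h, hh⟩ := exists_lift S (incCoTwo g)
    have e1 := psi_smul S hh hu
    rw [incCoTwo_fix, hu] at e1
    obtain ⟨h', h1, h2⟩ := conj_fix S htc h e1.symm
    have h2' : (h' : G) * t * (h' : G)⁻¹ = t := by rw [← ht]; exact congrArg vG h2
    refine ⟨⟨h', h'.2, Subgroup.mem_centralizer_singleton_iff.2 (mul_inv_eq_iff_eq_mul.1 h2')⟩, coTwo_ext ?_⟩
    rw [hχ, hh, ← h1]
    rfl
  have hkerΦ : Φ.ker ≤ QK := by
    intro k hk
    rcases (hΦ1 k).1 hk with h | h
    · rw [show k = 1 from Subtype.ext h]; exact one_mem _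
    · exact ⟨_, tQ.2, ht.trans h.symm⟩
  have hker2 : Nat.card Φ.ker = 2 := by
    rw [Nat.card_eq_two_iff' (1 : Φ.ker)]
    refine ⟨⟨toK tQ (by rw [ht]; exact htK), (hΦ1 _).2 (Or.inr ht)⟩, ?_, ?_⟩
    · intro h
      exact htne (ht.symm.trans (congrArg (fun k : Φ.ker => ((k : K) : G)) h))
    · rintro ⟨k, hk⟩ hne
      rcases (hΦ1 k).1 hk with h | h
      · exact absurd (Subtype.ext (Subtype.ext h)) hne
      · exact Subtype.ext (Subtype.ext (h.trans ht.symm))
  set R := QK.map Φ with hR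
  haveI hRn : R.Normal := Subgroup.Normal.map hQKn Φ hΦs
  have hcomap : R.comap Φ = QK := by rw [hR, Subgroup.comap_map_eq, sup_eq_left.2 hkerΦ]
  -- cardinalities
  have hQKcard : Nat.card QK = 2 ^ 24 := by
    let f : Q →* Multiplicative (ZMod 2) := MonoidHom.mk'
      (fun b => Multiplicative.ofAdd (dl (b * tQ * b⁻¹ * tQ⁻¹))) fun a b => by
        obtain ⟨va, hva⟩ := S.iso.2.1 (QuotientGroup.mk a)
        obtain ⟨vb, hvb⟩ := S.iso.2.1 (QuotientGroup.mk b)
        have hvab : ψ (va + vb) = QuotientGroup.mk (a * b) := by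
          rw [S.iso.1, hva, hvb]; rfl
        rw [(forms S).2 _ _ _ _ hvab hu, (forms S).2 _ _ _ _ hva hu, (forms S).2 _ _ _ _ hvb hu, d8_add]
        rfl
    have hf : ∀ q, q ∈ f.ker ↔ q * tQ = tQ * q := fun q => by
      rw [MonoidHom.mem_ker]
      refine (ofAdd_eq_one (A := ZMod 2)).trans (dl_eq_zero.trans ⟨fun h => mul_inv_eq_iff_eq_mul.1 (mul_inv_eq_one.1 h), fun h => ?_⟩)
      rw [h, mul_inv_cancel_right, mul_inv_cancel]
    have hfs : Function.Surjective f := by
      intro c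
      have h2 := mult2_cases
      rcases h2 c with rfl | rfl
      · exact ⟨1, map_one f⟩
      · by_contra hne
        push Not at hne
        apply htc
        refine Subgroup.mem_center_iff.2 fun b => (hf b).1 ?_
        rcases h2 (f b) with h | h
        · exact h
        · exact absurd h (hne b)
    have h1 := f.ker.card_mul_index
    rw [Subgroup.index_ker, MonoidHom.range_eq_top.2 hfs, Subgroup.card_top, S.setting.2.2.2.1] at h1
    rw [show Nat.card (Multiplicative (ZMod 2)) = 2 from Nat.card_zmod 2] at h1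
    have h2 : Nat.card QK = Nat.card f.ker := by
      refine (Nat.card_congr (Equiv.ofBijective
        (fun q : f.ker => (⟨toK q.1 ((hcomm_t _).2 ((hf _).1 q.2)),
          toK_mem q.1 ((hcomm_t _).2 ((hf _).1 q.2))⟩ : QK)) ⟨?_, ?_⟩)).symm
      · intro a b h
        exact Subtype.ext (vG_injective (congrArg (fun k : QK => ((k : K) : G)) h))
      · intro k
        obtain ⟨q, hq⟩ := hQK k.1 k.2
        exact ⟨⟨q, (hf q).2 ((hcomm_t q).1 (by rw [hq]; exact k.1.2.2))⟩, Subtype.ext (Subtype.ext hq)⟩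
    omega
  have hRcard : Nat.card R = 2 ^ 23 := by
    have h := Cfsg.Agent.H92.MonsterCross.card_map_mul Φ QK
    rw [inf_eq_right.2 hkerΦ, hker2, hQKcard] at h
    rw [hR]; omega
  have hRp : IsPGroup 2 R := IsPGroup.of_card hRcard
  -- images in the second group of normal 2-subgroups
  have key : ∀ N : Subgroup (Subgroup.centralizer ({zb} : Set (Ct ⧸ T))), N.Normal →
      IsPGroup 2 ((N.comap Φ).map (incCoTwo.comp χ)) → N ≤ R := by
    intro N hN hp d hd
    obtain ⟨k, rfl⟩ := hΦs d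
    refine ⟨k, ?_, rfl⟩
    rw [SetLike.mem_coe, ← hχker, MonoidHom.mem_ker]
    have hfix : ∀ e ∈ (N.comap Φ).map (incCoTwo.comp χ), e • repA = repA ∨ e • repA = -repA := by
      rintro _ ⟨k, -, rfl⟩
      rw [repA_eq_leechU]
      exact Or.inl (incCoTwo_fix _)
    have h := two_normal_scalar _ hp hfix (fun g hg e he => by
      rw [repA_eq_leechU] at hg
      obtain ⟨g', rfl⟩ := exists_coTwo hg
      obtain ⟨k0, rfl⟩ := hχs g'
      obtain ⟨k1, hk1, rfl⟩ := he
      refine ⟨k0 * k1 * k0⁻¹, (hN.comap Φ).conj_mem _ hk1 k0, ?_⟩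
      simp [MonoidHom.comp_apply]) _ ⟨k, hd, rfl⟩
    refine coTwo_ext ?_
    rcases h with h | h
    · rw [map_one, show incCoTwo (χ k) = 1 from co0_ext fun x => (h x).trans (one_smul _ _).symm]
    · exfalso
      have h1 := (h Spor.leechU).symm.trans (incCoTwo_fix (χ k))
      have h2 : ¬ (-(Spor.leechU : GolayPt → ℤ) none = (Spor.leechU : GolayPt → ℤ) none) := by
        decide +kernel
      exact h2 (congrArg (fun w : leechLattice => (w : GolayPt → ℤ) none) h1)
  have hcent : Subgroup.centralizer (R : Set (Subgroup.centralizer ({zb} : Set (Ct ⧸ T)))) ≤ R := by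
    haveI : (Subgroup.centralizer (R : Set (Subgroup.centralizer ({zb} : Set (Ct ⧸ T))))).Normal := by
      refine ⟨fun a ha b r hr => ?_⟩
      have hr' : b⁻¹ * r * b ∈ R := by simpa using hRn.conj_mem r hr b⁻¹
      have := ha _ hr'
      calc r * (b * a * b⁻¹) = b * (b⁻¹ * r * b * a) * b⁻¹ := by group
        _ = b * (a * (b⁻¹ * r * b)) * b⁻¹ := by rw [this]
        _ = b * a * b⁻¹ * r := by group
    refine key _ this fun ⟨g, hg⟩ => ⟨2, ?_⟩
    obtain ⟨k, hk, rfl⟩ := hg
    apply Subtype.ext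
    show (incCoTwo (χ k)) ^ (2 ^ 2) = 1
    set γ := incCoTwo (χ k) with hγ
    have hγu : γ • Spor.leechU = Spor.leechU := incCoTwo_fix _
    have hperp : ∀ x, d8 x Spor.leechU = 0 → inM (γ • x - x) := by
      intro x hx
      obtain ⟨q, hq⟩ := QuotientGroup.mk_surjective (ψ x)
      have hqC := (hd8 x q hq.symm).1 hx
      have hc := hk (Φ (toK q hqC)) ⟨_, toK_mem q hqC, rfl⟩
      rw [← map_mul, ← map_mul] at hc
      have e1 := psi_smul S (g := γ) (h := ⟨k.1, k.2.1⟩) (hχ k) hq.symm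
      rcases hΦeq _ _ hc with h | h
      · have h' : conjQ (⟨k.1, k.2.1⟩ : Subgroup.centralizer ({z} : Set G)) q = q := vG_injective (by
          show (k : G) * vG q * (k : G)⁻¹ = vG q
          have h : (k : G) * vG q = vG q * k := h
          rw [h, mul_inv_cancel_right])
        rw [h', hq, psi_cg S] at e1
        obtain ⟨w, hw⟩ := e1
        exact ⟨w, Or.inl (by rw [hw]; abel)⟩
      · have h' : conjQ (⟨k.1, k.2.1⟩ : Subgroup.centralizer ({z} : Set G)) q = q * tQ := vG_injective (by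
          show (k : G) * vG q * (k : G)⁻¹ = vG q * vG tQ
          have h : (k : G) * vG q = vG q * k * t := h
          rw [ht, h, mul_assoc (vG q) (k : G) t, Subgroup.mem_centralizer_singleton_iff.1 k.2.2,
            ← mul_assoc, mul_inv_cancel_right])
        rw [h', QuotientGroup.mk_mul, hq, ← hu, ← S.iso.1, psi_cg S] at e1
        obtain ⟨w, hw⟩ := e1
        exact ⟨w, Or.inr (by rw [hw, repA_eq_leechU]; abel)⟩
    have hsq : ∀ v, inM ((γ * γ) • v - v) := by
      intro v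
      have hx : d8 (γ • v - v) Spor.leechU = 0 := by
        have h1 := d8_add (γ • v - v) v Spor.leechU
        rw [sub_add_cancel] at h1
        nth_rewrite 1 [← hγu] at h1
        rw [d8_smul] at h1
        exact add_eq_right.1 h1.symm
      have := (hperp _ hx).add (inM_double (γ • v - v))
      convert this using 1
      rw [co0_smul_sub, mul_smul]
      abel
    have h4 : ∀ v, Cg ((γ * γ * (γ * γ)) • v) v := by
      intro v
      set δ := γ * γ
      set y := δ • v - v with hy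
      obtain ⟨w, hw⟩ := hsq v
      have hyy : ∃ w', δ • y - y = w' + w' := by
        have hδu : δ • repA = repA := by rw [repA_eq_leechU, mul_smul, hγu, hγu]
        rw [← hy] at hw
        rcases hw with hw | hw <;> rw [hw]
        · exact ⟨δ • w - w, by rw [co0_smul_add]; abel⟩
        · exact ⟨δ • w - w, by rw [co0_smul_add, co0_smul_add, hδu]; abel⟩
      obtain ⟨w', hw'⟩ := hyy
      refine ⟨w' + y, ?_⟩
      rw [show v + (w' + y + (w' + y)) = v + ((w' + w') + (y + y)) by abel, ← hw', hy, mul_smul,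
        co0_smul_sub]
      abel
    have hc := co0_central_fix (faithful _ h4) (u := Spor.leechU) hnu (by
      simp only [mul_smul, hγu])
    rw [show (2 : ℕ) ^ 2 = 2 + 2 from rfl, pow_add, pow_two]
    exact hc
  have hcore : pCore 2 (Subgroup.centralizer ({zb} : Set (Ct ⧸ T))) = R := by
    refine le_antisymm (key _ inferInstance ?_) (Cfsg.Agent.Cores.le_pCore hRp)
    exact (IsPGroup.comap_of_ker_isPGroup Cfsg.Agent.Cores.pCore_isPGroup Φ
      (IsPGroup.of_card (n := 1) (by rw [hker2, pow_one]))).map _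
  have hFit : generalizedFittingSubgroup (Subgroup.centralizer ({zb} : Set (Ct ⧸ T))) = R := by
    rw [← hcore]
    refine (Cfsg.Agent.Components.genFitting_eq_pCore_iff (p := 2)).2 ?_
    rw [hcore]
    exact hcent
  -- the centre of R
  have hzK : vG zQ ∈ Ct := by rw [hzv]; exact hzCt
  set ζ : R := ⟨Φ (toK zQ hzK), ⟨_, toK_mem zQ hzK, rfl⟩⟩ with hζ
  have hlift : ∀ r : R, ∃ (q : Q) (h : vG q ∈ Ct), (r : Subgroup.centralizer ({zb} : Set (Ct ⧸ T))) = Φ (toK q h) := by
    intro r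
    obtain ⟨k, hk, hkr⟩ := r.2
    obtain ⟨q, hq⟩ := hQK k hk
    refine ⟨q, by rw [hq]; exact k.2.2, ?_⟩
    rw [← hkr]
    exact congrArg Φ (Subtype.ext hq.symm)
  have hzval : ∀ {q : Q} (h : vG q ∈ Ct), q = 1 ∨ q = zQ ∨ q = tQ ∨ q = zQ * tQ →
      (⟨Φ (toK q h), ⟨_, toK_mem q h, rfl⟩⟩ : R) = 1 ∨ (⟨Φ (toK q h), ⟨_, toK_mem q h, rfl⟩⟩ : R) = ζ := by
    intro q h hq
    rcases hq with rfl | rfl | rfl | rfl
    · exact Or.inl (Subtype.ext ((hΦ1 _).2 (Or.inl rfl)))
    · exact Or.inr rfl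
    · exact Or.inl (Subtype.ext ((hΦ1 _).2 (Or.inr ht)))
    · refine Or.inr (Subtype.ext (Subtype.ext ((hmk _ _).2 (Or.inr ?_))))
      show vG zQ = vG (zQ * tQ) * t
      rw [show vG (zQ * tQ) = vG zQ * t from congrArg (vG zQ * ·) ht, mul_assoc, ht2', mul_one]
  have hζc : ∀ r : R, r * ζ = ζ * r := by
    intro r
    obtain ⟨q, hq, hr⟩ := hlift r
    apply Subtype.ext
    show (r : Subgroup.centralizer ({zb} : Set (Ct ⧸ T))) * Φ _ = Φ _ * r
    rw [hr, ← map_mul, ← map_mul]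
    exact congrArg Φ (Subtype.ext (congrArg vG (Subgroup.mem_center_iff.1 ((hZ zQ).2 (Or.inr rfl)) q)))
  have hclass : ∀ {q : Q} (v : leechLattice), ψ v = QuotientGroup.mk q →
      (∀ x, d8 x Spor.leechU = 0 → d8 v x = 0) → q = 1 ∨ q = zQ ∨ q = tQ ∨ q = zQ * tQ := by
    intro q v hv hperp
    obtain ⟨a, ha⟩ := exists_d8_one
    have h2 := zmod2_cases
    rcases h2 (d8 v a) with hva | hva
    · rcases (hZ q).1 (central_of_perp S hv ha hva fun x hx => hperp x (by rwa [d8_comm])) with h | h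
      · exact Or.inl h
      · exact Or.inr (Or.inl h)
    · have hv' : ψ (v + Spor.leechU) = QuotientGroup.mk (q * tQ) := by rw [S.iso.1, hv, hu]; rfl
      have := central_of_perp S hv' ha (by rw [d8_add, hva, ha, zmod2_one_add]) fun x hx => by
        rw [d8_add, hperp x (by rwa [d8_comm]), hx, add_zero]
      rcases (hZ _).1 this with h | h
      · refine Or.inr (Or.inr (Or.inl ?_))
        calc q = q * tQ * tQ := by rw [mul_assoc, ht2, mul_one]
          _ = tQ := by rw [h, one_mul]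
      · refine Or.inr (Or.inr (Or.inr ?_))
        calc q = q * tQ * tQ := by rw [mul_assoc, ht2, mul_one]
          _ = zQ * tQ := by rw [h]
  have hcen : ∀ r : R, (∀ r', r' * r = r * r') → r = 1 ∨ r = ζ := by
    intro r hr
    obtain ⟨q, hq, hrq⟩ := hlift r
    obtain ⟨v, hv⟩ := S.iso.2.1 (QuotientGroup.mk q)
    rw [show r = ⟨Φ (toK q hq), ⟨_, toK_mem q hq, rfl⟩⟩ from Subtype.ext hrq]
    refine hzval hq (hclass v hv fun x hx => ?_)
    obtain ⟨b, hb⟩ := QuotientGroup.mk_surjective (ψ x)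
    have hbC := (hd8 x b hb.symm).1 hx
    have h := congrArg Subtype.val (hr ⟨Φ (toK b hbC), ⟨_, toK_mem b hbC, rfl⟩⟩)
    change Φ (toK b hbC) * (r : Subgroup.centralizer ({zb} : Set (Ct ⧸ T))) = r * Φ (toK b hbC) at h
    rw [hrq, ← map_mul, ← map_mul] at h
    rw [← (forms S).2 v x q b hv hb.symm, dl_eq_zero]
    rcases hΦeq _ _ h with h' | h'
    · have h'' : q * b = b * q := vG_injective h'
      rw [h'', mul_inv_cancel_right, mul_inv_cancel]
    · exfalso
      have h'' : q * b = b * q * tQ := vG_injective (by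
        show vG q * vG b = vG b * vG q * vG tQ
        rw [ht]; exact h')
      have hq' : q * tQ = tQ * q := (hcomm_t q).1 hq
      have hb' : b * tQ = tQ * b := (hcomm_t b).1 hbC
      have : q * b * q⁻¹ * b⁻¹ = tQ := by
        rw [h'', mul_assoc (b * q) tQ q⁻¹, show tQ * q⁻¹ = q⁻¹ * tQ by
          rw [eq_inv_mul_iff_mul_eq, ← mul_assoc, hq', mul_inv_cancel_right],
          ← mul_assoc, mul_inv_cancel_right, hb', mul_inv_cancel_right]
      exact htc (this ▸ comm_center S q b)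
  have hRsq : ∀ r : R, r * r = 1 ∨ r * r = ζ := by
    intro r
    obtain ⟨q, hq, hrq⟩ := hlift r
    have hqq : vG (q * q) ∈ Ct := mul_mem hq hq
    rw [show r * r = ⟨Φ (toK (q * q) hqq), ⟨_, toK_mem (q * q) hqq, rfl⟩⟩ from Subtype.ext (by
      show (r : Subgroup.centralizer ({zb} : Set (Ct ⧸ T))) * r = _
      rw [hrq, ← map_mul]; rfl)]
    refine hzval hqq ?_
    rcases (hZ _).1 (sq_center S q) with h | h <;> simp [h]
  have hRcomm : ∀ r r' : R, r * r' * r⁻¹ * r'⁻¹ = 1 ∨ r * r' * r⁻¹ * r'⁻¹ = ζ := by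
    intro r r'
    obtain ⟨q, hq, hrq⟩ := hlift r
    obtain ⟨q', hq', hrq'⟩ := hlift r'
    have hqq : vG (q * q' * q⁻¹ * q'⁻¹) ∈ Ct :=
      mul_mem (mul_mem (mul_mem hq hq') (inv_mem hq)) (inv_mem hq')
    rw [show r * r' * r⁻¹ * r'⁻¹ = ⟨Φ (toK (q * q' * q⁻¹ * q'⁻¹) hqq), ⟨_, toK_mem (q * q' * q⁻¹ * q'⁻¹) hqq, rfl⟩⟩ from Subtype.ext (by
      rw [Subgroup.coe_mul, Subgroup.coe_mul, Subgroup.coe_mul, Subgroup.coe_inv, Subgroup.coe_inv,
        hrq, hrq', ← map_inv, ← map_inv, ← map_mul, ← map_mul, ← map_mul]; rfl)]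
    refine hzval hqq ?_
    rcases (hZ _).1 (comm_center S q q') with h | h <;> simp [h]
  have hζ1 : ζ ≠ 1 := fun h => by
    rcases (hΦ1 _).1 (congrArg Subtype.val h) with h' | h'
    · exact hz1 (vG_injective h')
    · exact hz_ne_t (hzv.symm.trans h')
  have hext : IsExtraspecial 2 R := Cfsg.Agent.H92.isExtraspecial_of_center_two hRp hζ1 hζc hcen hRcomm hRsq
    (by rw [hRcard]; norm_num)
  have hRcen : ∀ r : R, r ∈ Subgroup.center R ↔ r = 1 ∨ r = ζ := fun r =>
    ⟨fun h => hcen r fun r' => Subgroup.mem_center_iff.1 h r',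
      fun h => Subgroup.mem_center_iff.2 fun r' => by
        rcases h with rfl | rfl
        · rw [mul_one, one_mul]
        · exact hζc r'⟩
  -- the setting
  have hzne : zb ≠ 1 := fun h => by
    rw [hzb, QuotientGroup.eq_one_iff, hT'] at h
    rcases h with h | h
    · exact hz1 (vG_injective (hzv.trans h))
    · exact hz_ne_t h
  obtain ⟨g, hgt, hgQ, hgne⟩ := exists_move S hu hnu
  rw [ht] at hgt
  have hgC : g ∈ Ct := Subgroup.mem_centralizer_singleton_iff.2 (mul_inv_eq_iff_eq_mul.1 hgt)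
  have hsetting : IsExtraspecialCentralizerSetting zb R 11 := by
    refine ⟨orderOf_eq_prime ?_ hzne, hFit, hext, by rw [hRcard], QuotientGroup.mk ⟨g, hgC⟩, ?_, ?_⟩
    · rw [hzb, pow_two, ← QuotientGroup.mk_mul, QuotientGroup.eq_one_iff, hT']
      exact Or.inl ((congrArg₂ (· * ·) hzv.symm hzv.symm).trans (congrArg vG hz2))
    · obtain ⟨c, hc, hcg⟩ := hgQ
      have hsC : g * z * g⁻¹ ∈ Subgroup.centralizer ({z} : Set G) := hcg ▸ c.2
      have hsT : g * z * g⁻¹ ∈ Ct := mul_mem (mul_mem hgC hzCt) (inv_mem hgC)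
      set k : K := ⟨g * z * g⁻¹, hsC, hsT⟩
      exact ⟨(Φ k).2, ⟨k, ⟨c, hc, hcg⟩, rfl⟩⟩
    · intro h
      rw [hzb, ← QuotientGroup.mk_inv, ← QuotientGroup.mk_mul, ← QuotientGroup.mk_mul, hmk] at h
      simp only [Subgroup.coe_mul, Subgroup.coe_inv] at h
      rcases h with h | h
      · exact hgne h.symm
      · apply hzt_not
        refine isConj_iff.2 ⟨g, ?_⟩
        nth_rewrite 2 [h]
        rw [mul_assoc (g * z * g⁻¹), ht2', mul_one]
  -- the identification
  let χD : Subgroup.centralizer ({zb} : Set (Ct ⧸ T)) →* Spor.Co2 :=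
    Φ.liftOfSurjective hΦs ⟨χ, hkerΦ.trans hχker.ge⟩
  have hχD : ∀ k, χD (Φ k) = χ k := fun k => MonoidHom.liftOfRightInverse_comp_apply _ _ _ _ k
  have hχDker : χD.ker = R := by
    ext d
    obtain ⟨k, rfl⟩ := hΦs d
    rw [MonoidHom.mem_ker, hχD, ← MonoidHom.mem_ker, hχker, ← hcomap]
    rfl
  have hχDs : Function.Surjective χD := fun g => by
    obtain ⟨k, hk⟩ := hχs g
    exact ⟨Φ k, (hχD k).trans hk⟩
  let e' := (QuotientGroup.quotientMulEquivOfEq hχDker.symm).trans
    (QuotientGroup.quotientKerEquivOfSurjective χD hχDs)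
  have he' : ∀ d, e' (QuotientGroup.mk d) = χD d := fun d => rfl
  let lift : leechLattice → Q := fun v => (ψ v).out
  have hlift' : ∀ v, ψ v = QuotientGroup.mk (lift v) := fun v => (Quotient.out_eq _).symm
  let mkR : ∀ q : Q, vG q ∈ Ct → R ⧸ Subgroup.center R := fun q h =>
    QuotientGroup.mk ⟨Φ (toK q h), ⟨_, toK_mem q h, rfl⟩⟩
  let ψ' : leechPerpU → R ⧸ Subgroup.center R := fun x =>
    mkR (lift x) ((hd8 _ _ (hlift' x)).1 ((perp_iff _).1 x.2))
  have hwd : ∀ (q q' : Q) (h : vG q ∈ Ct) (h' : vG q' ∈ Ct),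
      (QuotientGroup.mk q : Q ⧸ Subgroup.center Q) = QuotientGroup.mk q' → mkR q h = mkR q' h' := by
    intro q q' h h' he
    refine QuotientGroup.eq.2 ((hRcen _).2 ?_)
    have hm : vG (q⁻¹ * q') ∈ Ct := mul_mem (inv_mem h) h'
    rw [show (⟨Φ (toK q h), ⟨_, toK_mem q h, rfl⟩⟩ : R)⁻¹ * ⟨Φ (toK q' h'), ⟨_, toK_mem q' h', rfl⟩⟩ =
      ⟨Φ (toK (q⁻¹ * q') hm), ⟨_, toK_mem (q⁻¹ * q') hm, rfl⟩⟩ from Subtype.ext (by
        show (Φ (toK q h))⁻¹ * Φ (toK q' h') = _
        rw [← map_inv, ← map_mul]; rfl)]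
    refine hzval hm ?_
    rcases (hZ _).1 (QuotientGroup.eq.1 he) with e | e <;> simp [e]
  have hψ' : ∀ (x : leechPerpU) (q : Q) (h : vG q ∈ Ct), ψ x = QuotientGroup.mk q → ψ' x = mkR q h :=
    fun x q h hx => hwd (lift x) q ((hd8 _ _ (hlift' x)).1 ((perp_iff _).1 x.2)) h ((hlift' x).symm.trans hx)
  refine ⟨zb, R, hRn, hsetting, e', ψ', ?_, ?_, ?_, ?_⟩
  · intro x y
    obtain ⟨a, ha⟩ := QuotientGroup.mk_surjective (ψ x)
    obtain ⟨b, hb⟩ := QuotientGroup.mk_surjective (ψ y)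
    have hac := (hd8 _ a ha.symm).1 ((perp_iff _).1 x.2)
    have hbc := (hd8 _ b hb.symm).1 ((perp_iff _).1 y.2)
    rw [hψ' x a hac ha.symm, hψ' y b hbc hb.symm, hψ' (x + y) (a * b) (mul_mem hac hbc)
      (by rw [AddSubgroup.coe_add, S.iso.1, QuotientGroup.mk_mul, ha, hb])]
    refine Eq.trans ?_ (QuotientGroup.mk_mul _ _ _)
    exact congrArg (QuotientGroup.mk : R → R ⧸ Subgroup.center R) (Subtype.ext (map_mul Φ (toK a hac) (toK b hbc)))
  · intro c
    obtain ⟨r, rfl⟩ := QuotientGroup.mk_surjective c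
    obtain ⟨q, hq, hrq⟩ := hlift r
    obtain ⟨v, hv⟩ := S.iso.2.1 (QuotientGroup.mk q)
    refine ⟨⟨v, (perp_iff v).2 ((hd8 v q hv).2 hq)⟩, ?_⟩
    rw [hψ' _ q hq hv]
    exact congrArg _ (Subtype.ext hrq.symm)
  · intro x
    obtain ⟨q, hq⟩ := QuotientGroup.mk_surjective (ψ x)
    have hqc := (hd8 _ q hq.symm).1 ((perp_iff _).1 x.2)
    rw [hψ' x q hqc hq.symm, QuotientGroup.eq_one_iff, hRcen]
    constructor
    · intro h
      have h4 : q = 1 ∨ q = zQ ∨ q = tQ ∨ q = zQ * tQ := by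
        rcases h with h | h
        · rcases (hΦ1 _).1 (congrArg Subtype.val h) with h' | h'
          · exact Or.inl (vG_injective h')
          · exact Or.inr (Or.inr (Or.inl (vG_injective (h'.trans ht.symm))))
        · rcases hΦeq _ _ (congrArg Subtype.val h) with h' | h'
          · exact Or.inr (Or.inl (vG_injective h'.symm))
          · refine Or.inr (Or.inr (Or.inr (vG_injective ?_)))
            have h' : vG zQ = vG q * t := h'
            show vG q = vG zQ * vG tQ
            rw [h', ht, mul_assoc, ht2', mul_one]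
      have hψq : ψ x = 1 ∨ ψ x = ψ Spor.leechU := by
        rw [← hq, hu]
        have hzc : (QuotientGroup.mk zQ : Q ⧸ Subgroup.center Q) = 1 :=
          (QuotientGroup.eq_one_iff _).2 ((hZ _).2 (Or.inr rfl))
        rcases h4 with rfl | rfl | rfl | rfl
        · exact Or.inl rfl
        · exact Or.inl hzc
        · exact Or.inr rfl
        · exact Or.inr (by rw [QuotientGroup.mk_mul, hzc, one_mul])
      rcases hψq with h | h
      · exact Or.inl ((S.iso.2.2.1 _).1 h)
      · obtain ⟨w, hw⟩ := (psi_cg S).1 h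
        exact Or.inr ⟨w, hw⟩
    · intro h
      apply hzval hqc
      rcases h with hw | ⟨w, hw⟩
      · rcases (hZ q).1 ((QuotientGroup.eq_one_iff q).1 (hq.trans ((S.iso.2.2.1 _).2 hw))) with h | h <;>
          simp [h]
      · have := (psi_cg S).2 ⟨w, hw⟩
        rw [← hq, hu] at this
        rcases (hZ _).1 (QuotientGroup.eq.1 this.symm) with h | h
        · exact Or.inr (Or.inr (Or.inl (inv_mul_eq_one.1 h).symm))
        · refine Or.inr (Or.inr (Or.inr ?_))
          rw [inv_mul_eq_iff_eq_mul.1 h]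
          exact Subgroup.mem_center_iff.1 ((hZ zQ).2 (Or.inr rfl)) tQ
  · intro d g hdg x y hxy r hr
    obtain ⟨k, rfl⟩ := hΦs d
    rw [he', hχD] at hdg
    obtain ⟨q, hq, hrq⟩ := hlift r
    obtain ⟨v0, hv0⟩ := S.iso.2.1 (QuotientGroup.mk q)
    obtain ⟨q0, hq0⟩ := QuotientGroup.mk_surjective (ψ x)
    have hq0c := (hd8 _ q0 hq0.symm).1 ((perp_iff _).1 x.2)
    have hconjC : vG (conjQ (⟨k.1, k.2.1⟩ : Subgroup.centralizer ({z} : Set G)) q0) ∈ Ct :=
      mul_mem (mul_mem k.2.2 hq0c) (inv_mem k.2.2)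
    have e1 := psi_smul S (g := incCoTwo g) (h := ⟨k.1, k.2.1⟩) (by rw [← hdg]; exact hχ k) hq0.symm
    rw [incCoTwo_smul, hxy] at e1
    rw [hψ' y _ hconjC e1]
    rw [hψ' x q0 hq0c hq0.symm] at hr
    have h1 := QuotientGroup.eq.1 hr
    refine QuotientGroup.eq.2 ?_
    rw [hRcen] at h1 ⊢
    set kc := Φ k with hkc
    have hζfix : kc * (ζ : Subgroup.centralizer ({zb} : Set (Ct ⧸ T))) * kc⁻¹ = ζ := by
      show Φ k * Φ (toK zQ hzK) * (Φ k)⁻¹ = Φ (toK zQ hzK)
      rw [← map_mul, ← map_inv, ← map_mul]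
      refine congrArg Φ (Subtype.ext ?_)
      show (k : G) * vG zQ * (k : G)⁻¹ = vG zQ
      rw [hzv, Subgroup.mem_centralizer_singleton_iff.1 k.2.1, mul_inv_cancel_right]
    have hmain : Φ (toK (conjQ (⟨k.1, k.2.1⟩ : Subgroup.centralizer ({z} : Set G)) q0) hconjC) =
        kc * Φ (toK q0 hq0c) * kc⁻¹ := by
      rw [hkc, ← map_mul, ← map_inv, ← map_mul]; rfl
    rcases h1 with h1 | h1
    · left
      apply Subtype.ext
      have := congrArg Subtype.val h1
      change (Φ (toK q0 hq0c))⁻¹ * (r : Subgroup.centralizer ({zb} : Set (Ct ⧸ T))) = 1 at this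
      show (Φ (toK _ hconjC))⁻¹ * (kc * r * kc⁻¹) = 1
      rw [hmain, inv_mul_eq_one.1 this, inv_mul_cancel]
    · right
      apply Subtype.ext
      have := congrArg Subtype.val h1
      change (Φ (toK q0 hq0c))⁻¹ * (r : Subgroup.centralizer ({zb} : Set (Ct ⧸ T))) = ζ at this
      show (Φ (toK _ hconjC))⁻¹ * (kc * r * kc⁻¹) = ζ
      rw [hmain, inv_mul_eq_iff_eq_mul.1 this]
      calc (kc * Φ (toK q0 hq0c) * kc⁻¹)⁻¹ * (kc * (Φ (toK q0 hq0c) * ζ) * kc⁻¹)
          = kc * (ζ : Subgroup.centralizer ({zb} : Set (Ct ⧸ T))) * kc⁻¹ := by group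
        _ = ζ := hζfix

end Cfsg.Agent.H74.Monster
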