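import Cfsg.Agent.H44.Centralizer

/-!
Kernel-checked search for the permutations of the Mathieu group on 24 points carrying one table to another.
-/

set_option autoImplicit false

namespace Cfsg.Agent.H74.Monster

open Cfsg Cfsg.Agent.Golay
open Cfsg.Agent.H44 (imgMask srcMask testBit_srcMask testBit_imgMask ptSet_imgMask imgMask_lt)
open scoped Pointwise

/-- the pairs on the cycle of `r` when `r` is sent to `j` -/
def cycTo (X X' p r j : ℕ) : List (ℕ × ℕ) :=
  (List.range p).map fun k => (iterTbl X k r, iterTbl X' k j)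

/-- the listed pairs do not extend: a listed word is covered and its image is not a code word -/
def blockedBy (tests : List ℕ) (l : List (ℕ × ℕ)) : Bool :=
  tests.any fun o => inCode o && (o &&& srcMask l == o) && !inCode (imgMask l o)

/-- the point `j` cannot be the image of `r` -/
def badImg (X X' r j : ℕ) (l : List (ℕ × ℕ)) : Bool :=
  ((app X' j == j) != (app X r == r)) || ((imgMask l fullMask).testBit j && !(srcMask l).testBit r)

/-- every extension is listed or blocked -/
def searchConj (X X' p : ℕ) (tests L : List ℕ) : List ℕ → List (ℕ × ℕ) → Bool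
  | [], l => srcMask l == fullMask && L.any fun T => l.all fun ab => app T ab.1 == ab.2
  | r :: rs, l => decide (r < 24) && (List.range 24).all fun j =>
      badImg X X' r j l || blockedBy tests (l ++ cycTo X X' p r j) ||
        searchConj X X' p tests L rs (l ++ cycTo X X' p r j)

theorem not_blockedBy {l : List (ℕ × ℕ)} {σ : Equiv.Perm GolayPt} (hσ : σ ∈ M24)
    (hl : ∀ ab ∈ l, ab.1 < 24 ∧ ab.2 < 24 ∧ σ (pt ab.1) = pt ab.2) (tests : List ℕ) :
    blockedBy tests l = false := by
  rw [Bool.eq_false_iff]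
  intro h
  simp only [blockedBy, List.any_eq_true, Bool.and_eq_true, beq_iff_eq, Bool.not_eq_true'] at h
  obtain ⟨o, -, ⟨hoc, hsub⟩, hnot⟩ := h
  have ho := inCode_iff.1 hoc
  have hpt : ptSet (imgMask l o) = σ • ptSet o := by
    rw [ptSet_imgMask hl]
    congr 1
    rw [← ptSet_and, hsub]
  have hmem : ptSet (imgMask l o) ∈ supports (golayCode : Set (GolayPt → ZMod 2)) := by
    rw [hpt]
    exact smul_mem_supports hσ ((ptSet_mem_supports_iff (codeList_lt ho)).2 ho)
  rw [ptSet_mem_supports_iff (imgMask_lt (fun ab hab => (hl ab hab).2.1) o)] at hmem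
  rw [inCode_iff.2 hmem] at hnot
  exact Bool.noConfusion hnot

theorem searchConj_spec {X X' p : ℕ} {tests L : List ℕ} (hX : validT X = true) (hX' : validT X' = true)
    (hL : ∀ T ∈ L, validT T = true) {σ : Equiv.Perm GolayPt} (hσ : σ ∈ M24)
    (hc : σ * mkPerm X = mkPerm X' * σ) :
    ∀ (rs : List ℕ) (l : List (ℕ × ℕ)), searchConj X X' p tests L rs l = true →
      (∀ ab ∈ l, ab.1 < 24 ∧ ab.2 < 24 ∧ σ (pt ab.1) = pt ab.2) → ∃ T ∈ L, mkPerm T = σ
  | [], l, h, hl => by
    simp only [searchConj, Bool.and_eq_true, beq_iff_eq, List.any_eq_true, List.all_eq_true] at h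
    obtain ⟨hfull, T, hT, hTl⟩ := h
    refine ⟨T, hT, Equiv.ext fun z => ?_⟩
    have hz : (srcMask l).testBit (idx z) = true := by
      rw [hfull, ← mem_ptSet, ptSet_fullMask]; exact Finset.mem_univ _
    obtain ⟨ab, hab, he⟩ := (testBit_srcMask l _).1 hz
    obtain ⟨h1, h2, h3⟩ := hl ab hab
    rw [← pt_idx z, ← he, h3, mkPerm_pt (hL T hT) h1, hTl ab hab]
  | r :: rs, l, h, hl => by
    simp only [searchConj, Bool.and_eq_true, decide_eq_true_eq, List.all_eq_true] at h
    obtain ⟨hr, hall⟩ := h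
    have hj := hall (idx (σ (pt r))) (List.mem_range.2 (idx_lt _))
    simp only [Bool.or_eq_true] at hj
    have hcomm : ∀ (k : ℕ) w, σ ((mkPerm X ^ k) w) = (mkPerm X' ^ k) (σ w) := fun k w =>
      Equiv.congr_fun (SemiconjBy.pow_right (show SemiconjBy σ (mkPerm X) (mkPerm X') from hc) k) w
    have hl' : ∀ ab ∈ l ++ cycTo X X' p r (idx (σ (pt r))),
        ab.1 < 24 ∧ ab.2 < 24 ∧ σ (pt ab.1) = pt ab.2 := by
      intro ab hab
      rcases List.mem_append.1 hab with hab | hab
      · exact hl ab hab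
      · simp only [cycTo, List.mem_map] at hab
        obtain ⟨k, -, rfl⟩ := hab
        simp only [iterTbl_spec hX k hr, iterTbl_spec hX' k (idx_lt _), pt_idx]
        exact ⟨idx_lt _, idx_lt _, hcomm k _⟩
    rcases hj with (hj | hj) | hj
    · exfalso
      simp only [badImg, Bool.or_eq_true, Bool.and_eq_true, Bool.not_eq_true', bne_iff_ne, ne_eq] at hj
      rcases hj with hj | ⟨h1, h2⟩
      · apply hj
        rw [Bool.eq_iff_iff, beq_iff_eq, beq_iff_eq]
        have e1 : app X' (idx (σ (pt r))) = idx (σ (mkPerm X (pt r))) := by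
          rw [show σ (mkPerm X (pt r)) = mkPerm X' (σ (pt r)) from Equiv.congr_fun hc (pt r),
            idx_mkPerm hX']
        rw [e1, mkPerm_pt hX hr, idx_injective.eq_iff, σ.injective.eq_iff,
          pt_inj ((validT_bijective hX).2 r hr) hr]
      · obtain ⟨ab, hab, -, he⟩ := testBit_imgMask.1 h1
        obtain ⟨ha, -, hab'⟩ := hl ab hab
        rw [he, pt_idx] at hab'
        have : ab.1 = r := (pt_inj ha hr).1 (σ.injective hab')
        rw [(testBit_srcMask l r).2 ⟨ab, hab, this⟩] at h2
        exact Bool.noConfusion h2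
    · rw [not_blockedBy hσ hl'] at hj
      exact Bool.noConfusion hj
    · exact searchConj_spec hX hX' hL hσ hc rs _ hj hl'

/-- a checked list of all conjugating tables -/
def conjListOK (X X' p : ℕ) (tests reps L : List ℕ) : Bool :=
  inM24 X && inM24 X' && (L.all fun T => inM24 T && tblEq (tblMul T X) (tblMul X' T)) &&
    searchConj X X' p tests L reps []

theorem conjListOK_sound {X X' p : ℕ} {tests reps L : List ℕ} (h : conjListOK X X' p tests reps L = true)
    {σ : Equiv.Perm GolayPt} (hσ : σ ∈ M24) (hc : σ * mkPerm X = mkPerm X' * σ) :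
    ∃ T ∈ L, mkPerm T = σ := by
  simp only [conjListOK, Bool.and_eq_true, List.all_eq_true] at h
  obtain ⟨⟨⟨hX, hX'⟩, hL⟩, hs⟩ := h
  exact searchConj_spec (validT_of_inM24 hX) (validT_of_inM24 hX')
    (fun T hT => validT_of_inM24 (hL T hT).1) hσ hc reps [] hs (by simp)

theorem conjListOK_mem {X X' p : ℕ} {tests reps L : List ℕ} (h : conjListOK X X' p tests reps L = true)
    {T : ℕ} (hT : T ∈ L) : mkPerm T ∈ M24 ∧ mkPerm T * mkPerm X = mkPerm X' * mkPerm T := by
  simp only [conjListOK, Bool.and_eq_true, List.all_eq_true] at h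
  obtain ⟨⟨⟨hX, hX'⟩, hL⟩, -⟩ := h
  obtain ⟨hT1, hT2⟩ := hL T hT
  have vX := validT_of_inM24 hX
  have vX' := validT_of_inM24 hX'
  have vT := validT_of_inM24 hT1
  obtain ⟨v1, e1⟩ := tblMul_spec vT vX
  obtain ⟨v2, e2⟩ := tblMul_spec vX' vT
  exact ⟨mem_M24_of_inM24 hT1, by rw [← e1, ← e2]; exact mkPerm_eq_of_tblEq v1 v2 hT2⟩

end Cfsg.Agent.H74.Monster
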