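import Cfsg.Agent.H92.CrossGroup
import Cfsg.Agent.H92.LeechOrbit
import Cfsg.Agent.H74.Monster.ConjSearch

/-!
Elements of the cross stabiliser intertwining two permutation elements.
-/

set_option autoImplicit false

namespace Cfsg.Agent.H74.Monster

open Cfsg Cfsg.Agent.Golay Cfsg.Agent.H92.LeechTwo
open scoped Pointwise

/-- the permutation element of a table -/
noncomputable def tblPerm (T : ℕ) : Co0 :=
  if h : inM24 T = true then permHom ⟨mkPerm T, mem_M24_of_inM24 h⟩ else 1

theorem tblPerm_eq {T : ℕ} (h : inM24 T = true) :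
    tblPerm T = permHom ⟨mkPerm T, mem_M24_of_inM24 h⟩ := dif_pos h

theorem tblPerm_apply {T : ℕ} (h : inM24 T = true) (v : leechLattice) (i : GolayPt) :
    (tblPerm T • v : leechLattice).1 (mkPerm T i) = v.1 i := by
  rw [tblPerm_eq h]
  exact permAut_apply ⟨mkPerm T, mem_M24_of_inM24 h⟩ v i

theorem tblPerm_mem {T : ℕ} (h : inM24 T = true) : tblPerm T ∈ crossStab := by
  rw [tblPerm_eq h]; exact permAut_mem _

theorem signAut_injective {c d : SignSet} (h : signAut c = signAut d) : c = d :=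
  congrArg Prod.snd (monoAut_injective (a₁ := ((1 : M24), c)) (a₂ := ((1 : M24), d)) h)

/-- intertwiners in the cross stabiliser: signs fixed by the second permutation, and a listed permutation -/
theorem crossStab_conj {X X' p : ℕ} {tests reps L : List ℕ} (h : conjListOK X X' p tests reps L = true)
    {g : Co0} (hg : g ∈ crossStab) (hc : g * tblPerm X = tblPerm X' * g) :
    ∃ T ∈ L, ∃ m, ∃ hm : m ∈ codeList, tblImg X' m = m ∧ g = sg m hm * tblPerm T := by
  have h' := h
  simp only [conjListOK, Bool.and_eq_true, List.all_eq_true] at h'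
  obtain ⟨⟨⟨hX, hX'⟩, hL⟩, -⟩ := h'
  obtain ⟨a, ha, σ, rfl⟩ := split_crossStab hg
  obtain ⟨c, rfl⟩ := mem_signs.1 ha
  rw [tblPerm_eq hX, tblPerm_eq hX'] at hc
  set s : M24 := ⟨mkPerm X, mem_M24_of_inM24 hX⟩
  set s' : M24 := ⟨mkPerm X', mem_M24_of_inM24 hX'⟩
  obtain ⟨d, hd, hconj⟩ := conj_signAut s' c
  have hperm : (permAut s' : Co0) = permHom s' := rfl
  rw [hperm] at hconj
  have hr : permHom s' * (signAut c * permHom σ) = signAut d * permHom (s' * σ) := by
    rw [← hconj, map_mul]; group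
  rw [hr, mul_assoc, ← map_mul] at hc
  have hsig : σ * s = s' * σ := by
    have hmem : permHom (σ * s * (s' * σ)⁻¹) ∈ signs := by
      rw [show permHom (σ * s * (s' * σ)⁻¹) = (signAut c)⁻¹ * signAut d by
        rw [map_mul, map_inv, mul_inv_eq_iff_eq_mul, mul_assoc, eq_inv_mul_iff_mul_eq]
        exact hc]
      exact mul_mem (inv_mem (mem_signs.2 ⟨c, rfl⟩)) (mem_signs.2 ⟨d, rfl⟩)
    exact mul_inv_eq_one.1 (permHom_signs hmem)
  rw [hsig, mul_left_inj] at hc
  have hcd : c = d := signAut_injective hc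
  obtain ⟨T, hT, hTσ⟩ := conjListOK_sound h σ.2 (congrArg Subtype.val hsig)
  have hm := mem_supports_iff.1 c.2
  refine ⟨T, hT, maskOf c.1, hm, ?_, ?_⟩
  · refine ptSet_injOn (tblImg_lt (validT_of_inM24 hX') _) (maskOf_lt _) ?_
    rw [ptSet_tblImg (validT_of_inM24 hX'), ptSet_maskOf]
    show s'.1 • c.1 = c.1
    conv_rhs => rw [hcd, hd]
    rfl
  · rw [tblPerm_eq (hL T hT).1]
    congr 1
    · rw [sg]; congr 1; exact Subtype.ext (ptSet_maskOf c.1).symm
    · congr 1; exact Subtype.ext hTσ.symm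

theorem tblPerm_conj {X X' p : ℕ} {tests reps L : List ℕ} (h : conjListOK X X' p tests reps L = true)
    {T : ℕ} (hT : T ∈ L) : tblPerm T * tblPerm X = tblPerm X' * tblPerm T := by
  have h' := h
  simp only [conjListOK, Bool.and_eq_true, List.all_eq_true] at h'
  obtain ⟨⟨⟨hX, hX'⟩, hL⟩, -⟩ := h'
  rw [tblPerm_eq hX, tblPerm_eq hX', tblPerm_eq (hL T hT).1, ← map_mul, ← map_mul]
  exact congrArg permHom (Subtype.ext (conjListOK_mem h hT).2)

/-- an orbit mask is fixed: the sign change commutes with the permutation element -/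
theorem sg_comm {X : ℕ} (hX : inM24 X = true) {m : ℕ} (hm : m ∈ codeList) (hfix : tblImg X m = m) :
    sg m hm * tblPerm X = tblPerm X * sg m hm := by
  rw [tblPerm_eq hX, sg]
  obtain ⟨d, hd, hconj⟩ := conj_signAut ⟨mkPerm X, mem_M24_of_inM24 hX⟩
    ⟨ptSet m, (ptSet_mem_supports_iff (codeList_lt hm)).2 hm⟩
  have he : d = ⟨ptSet m, (ptSet_mem_supports_iff (codeList_lt hm)).2 hm⟩ := by
    refine Subtype.ext (hd.trans ?_)
    show mkPerm X • ptSet m = ptSet m
    rw [← ptSet_tblImg (validT_of_inM24 hX), hfix]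
  rw [he] at hconj
  nth_rewrite 1 [← hconj]
  exact inv_mul_cancel_right _ _

end Cfsg.Agent.H74.Monster
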