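import Cfsg.Agent.H92.LeechModTwo
import Cfsg.Agent.H92.LeechOrbit
import Cfsg.Agent.H74.Monster.MonoCent

/-!
Classes modulo two fixed by an element of odd order, and a Boolean test for congruence.
-/

set_option autoImplicit false

namespace Cfsg.Agent.H74.Monster

open Cfsg Cfsg.Agent.Golay Cfsg.Agent.H92.LeechTwo

/-- an element as an additive map -/
def addMap (g : Co0) : leechLattice →+ leechLattice := AddMonoidHom.mk' (g • ·) g.2.1

theorem addMap_apply (g : Co0) (v : leechLattice) : addMap g v = g • v := rfl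

theorem cg_add {a b c d : leechLattice} (h : Cg a b) (h' : Cg c d) : Cg (a + c) (b + d) := by
  obtain ⟨u, rfl⟩ := h
  obtain ⟨w, rfl⟩ := h'
  exact ⟨u + w, by abel⟩

theorem cg_nsmul_odd (v : leechLattice) (q : ℕ) : Cg ((2 * q + 1) • v) v := by
  refine ⟨q • v, ?_⟩
  rw [add_nsmul, mul_comm 2 q, mul_nsmul, two_nsmul, one_nsmul]
  abel

/-- a fixed class contains a fixed vector -/
theorem exists_fixed_vec {γ : Co0} {p : ℕ} (hp : Odd p) (hγ : γ ^ p = 1) {v : leechLattice}
    (h : Cg (γ • v) v) : ∃ u, γ • u = u ∧ Cg v u := by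
  refine ⟨∑ k ∈ Finset.range p, γ ^ k • v, ?_, ?_⟩
  · rw [← addMap_apply, map_sum]
    have e : ∀ k, addMap γ (γ ^ k • v) = γ ^ (k + 1) • v := fun k => by
      rw [addMap_apply, pow_succ', mul_smul]
    rw [Finset.sum_congr rfl fun k _ => e k]
    have h1 := Finset.sum_range_succ' (fun k => γ ^ k • v) p
    rw [Finset.sum_range_succ, hγ, pow_zero] at h1
    exact add_right_cancel h1.symm
  · have hk : ∀ k, Cg (γ ^ k • v) v := by
      intro k
      induction k with
      | zero => rw [pow_zero, one_smul]; exact Cg.refl v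
      | succ k ih => rw [pow_succ', mul_smul]; exact (Cg.smul γ ih).trans h
    have hs : ∀ n, Cg (∑ k ∈ Finset.range n, γ ^ k • v) (n • v) := by
      intro n
      induction n with
      | zero => simpa using Cg.refl 0
      | succ n ih => rw [Finset.sum_range_succ, succ_nsmul]; exact cg_add ih (hk n)
    obtain ⟨q, rfl⟩ := hp
    exact ((hs _).trans (cg_nsmul_odd v q)).symm

/-- the doubles -/
def dblSub : AddSubgroup leechLattice where
  carrier := {y | ∃ z, y = z + z}
  zero_mem' := ⟨0, by simp⟩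
  add_mem' := by rintro _ _ ⟨a, rfl⟩ ⟨b, rfl⟩; exact ⟨a + b, by abel⟩
  neg_mem' := by rintro _ ⟨a, rfl⟩; exact ⟨-a, by abel⟩

theorem mk_eq_iff_cg {v w : leechLattice} :
    (QuotientAddGroup.mk v : leechLattice ⧸ dblSub) = QuotientAddGroup.mk w ↔ Cg v w := by
  rw [QuotientAddGroup.eq]
  constructor
  · rintro ⟨z, hz⟩
    exact ⟨-z, by rw [show v = w + -(-v + w) by abel, hz]; abel⟩
  · rintro ⟨z, rfl⟩
    exact ⟨-z, by abel⟩

theorem finite_mod_dbl : Finite (leechLattice ⧸ dblSub) := by
  refine Nat.finite_of_card_ne_zero ?_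
  have h : twoLeech ≤ dblSub := by
    rintro x ⟨z, hz, he⟩
    exact ⟨⟨z, hz⟩, Subtype.ext (by rw [AddSubgroup.coe_add, ← two_nsmul]; exact he.symm)⟩
  have hd : Nat.card (leechLattice ⧸ dblSub) ∣ 2 ^ 24 := by
    rw [← card_leechModTwo]
    exact AddSubgroup.index_dvd_of_le h
  intro h0
  rw [h0] at hd
  simp at hd

/-- a subgroup of `ℤ^k` has at most `2^k` classes in a group of exponent two -/
theorem card_image_two {A : Type*} [AddCommGroup A] {k : ℕ} (M : Submodule ℤ (Fin k → ℤ)) (h : ↥M →+ A)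
    (h2 : ∀ a : A, a + a = 0) : Nat.card h.range ≤ 2 ^ k := by
  obtain ⟨n, b⟩ := Submodule.basisOfPid (Pi.basisFun ℤ (Fin k)) M
  have hn : n ≤ k := by
    have h1 := Submodule.finrank_le M
    rwa [Module.finrank_eq_card_basis b, Module.finrank_fintype_fun_eq_card, Fintype.card_fin,
      Fintype.card_fin] at h1
  let g : (Fin n → Fin 2) → h.range := fun e => ⟨h (∑ i, ((e i).val : ℤ) • b i), ⟨_, rfl⟩⟩
  have hg : Function.Surjective g := by
    rintro ⟨_, m, rfl⟩
    refine ⟨fun i => ⟨(b.repr m i % 2).toNat, by omega⟩, Subtype.ext ?_⟩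
    show h _ = h m
    conv_rhs => rw [← b.sum_repr m]
    rw [map_sum, map_sum]
    refine Finset.sum_congr rfl fun i _ => ?_
    rw [map_zsmul, map_zsmul]
    have he : b.repr m i = ((b.repr m i % 2).toNat : ℤ) + 2 * (b.repr m i / 2) := by omega
    conv_rhs => rw [he]
    rw [add_zsmul, mul_comm (2 : ℤ), mul_zsmul, two_zsmul, h2, smul_zero, add_zero]
  calc Nat.card h.range ≤ Nat.card (Fin n → Fin 2) := Nat.card_le_card_of_surjective g hg
    _ = 2 ^ n := by rw [Nat.card_fun, Nat.card_fin, Nat.card_fin]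
    _ ≤ 2 ^ k := Nat.pow_le_pow_right (by norm_num) hn

/-- every point is on the cycle of a representative -/
def coverOK (X : ℕ) (reps : List ℕ) : Bool :=
  (List.range 24).all fun i => reps.any fun r => decide (r < 24) &&
    (List.range 24).any fun j => iterTbl X j r == i

/-- the fixed classes of a permutation element are those of a full list of fixed vectors -/
theorem fixed_classes_list {X p : ℕ} (hX : inM24 X = true) (hp : Odd p) (hγ : tblPerm X ^ p = 1)
    (reps : List ℕ) (hcov : coverOK X reps = true) (rep : Fin (2 ^ reps.length) → leechLattice)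
    (hfix : ∀ i, tblPerm X • rep i = rep i) (hdist : ∀ i j, Cg (rep i) (rep j) → i = j)
    {v : leechLattice} (hv : Cg (tblPerm X • v) v) : ∃ i, Cg v (rep i) := by
  classical
  have := finite_mod_dbl
  obtain ⟨u, hu, hvu⟩ := exists_fixed_vec hp hγ hv
  let Fx : AddSubgroup leechLattice :=
    { carrier := {w | tblPerm X • w = w}
      zero_mem' := co0_smul_zero _
      add_mem' := fun {a b} (ha : _ = a) (hb : _ = b) => by
        show _ = a + b
        rw [co0_smul_add, ha, hb]
      neg_mem' := fun {a} (ha : _ = a) => by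
        show _ = -a
        rw [co0_smul_neg, ha] }
  let π := (QuotientAddGroup.mk' dblSub).comp Fx.subtype
  let Φ : Fx →+ (Fin reps.length → ℤ) := AddMonoidHom.mk' (fun w r => w.1.1 (pt reps[r.1]))
    fun a b => rfl
  have hinj : Function.Injective Φ := by
    intro a b hab
    refine Subtype.ext (Subtype.ext (funext fun i => ?_))
    simp only [coverOK, List.all_eq_true, List.any_eq_true, Bool.and_eq_true, decide_eq_true_eq,
      beq_iff_eq] at hcov
    obtain ⟨r, hr, hr24, j, -, hj⟩ := hcov (idx i) (List.mem_range.2 (idx_lt i))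
    have hstep : ∀ (w : Fx) (j : ℕ), w.1.1 ((mkPerm X ^ j) (pt r)) = w.1.1 (pt r) := by
      intro w j
      induction j with
      | zero => rfl
      | succ j ih =>
        rw [pow_succ', Equiv.Perm.mul_apply]
        refine Eq.trans ?_ ih
        have h1 := tblPerm_apply hX w.1 ((mkPerm X ^ j) (pt r))
        rwa [show tblPerm X • w.1 = w.1 from w.2] at h1
    have hi : i = (mkPerm X ^ j) (pt r) := by
      rw [← pt_idx i, ← hj, iterTbl_spec (validT_of_inM24 hX) j hr24, pt_idx]
    rw [hi, hstep, hstep]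
    obtain ⟨n, hn, rfl⟩ := List.mem_iff_getElem.1 hr
    exact congrFun hab ⟨n, hn⟩
  have hM := card_image_two (AddSubgroup.toIntSubmodule Φ.range)
    (π.comp (AddMonoidHom.ofInjective hinj).symm.toAddMonoidHom)
    (fun a => by
      induction a using QuotientAddGroup.induction_on with
      | H z => rw [← QuotientAddGroup.mk_add, QuotientAddGroup.eq_zero_iff]; exact ⟨z, rfl⟩)
  have hrange : (π.comp (AddMonoidHom.ofInjective hinj).symm.toAddMonoidHom).range = π.range := by
    ext a
    constructor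
    · rintro ⟨b, rfl⟩; exact ⟨_, rfl⟩
    · rintro ⟨b, rfl⟩
      exact ⟨AddMonoidHom.ofInjective hinj b, congrArg π ((AddMonoidHom.ofInjective hinj).symm_apply_apply b)⟩
  replace hM : Nat.card π.range ≤ 2 ^ reps.length := by
    rw [← hrange]; exact hM
  let F : Fin (2 ^ reps.length) → π.range := fun i => ⟨π ⟨rep i, hfix i⟩, ⟨_, rfl⟩⟩
  have hFinj : Function.Injective F := fun i j hij =>
    hdist i j (mk_eq_iff_cg.1 (congrArg Subtype.val hij))
  have hFbij : Function.Bijective F := (Nat.bijective_iff_injective_and_card F).2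
    ⟨hFinj, le_antisymm (Nat.card_le_card_of_injective F hFinj) (hM.trans (Nat.card_fin _).ge)⟩
  obtain ⟨i, hi⟩ := hFbij.2 ⟨π ⟨u, hu⟩, ⟨_, rfl⟩⟩
  exact ⟨i, hvu.trans (mk_eq_iff_cg.1 (congrArg Subtype.val hi)).symm⟩

/-! ### Boolean congruence -/

/-- a function is twice a lattice vector -/
def dblB (x : GolayPt → ℤ) : Bool :=
  decide (∀ i, x i % 2 = 0) && inLeech (fun i => x i / 2)

theorem inLeech_of_mem {x : GolayPt → ℤ} (h : x ∈ leechLattice) : inLeech x = true := by
  obtain ⟨m, h1, h2, h3⟩ := mem_leech_iff.1 h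
  simp only [inLeech, Bool.and_eq_true, decide_eq_true_eq]
  have hn := h1 none
  exact ⟨⟨fun i => by rw [h1 i, hn], by omega⟩, inCode_iff.2 (mem_golayCode_iff.1 h3)⟩

theorem cg_iff_dblB {v w : leechLattice} : Cg v w ↔ dblB (fun i => v.1 i - w.1 i) = true := by
  rw [dblB, Bool.and_eq_true, decide_eq_true_eq]
  constructor
  · rintro ⟨z, rfl⟩
    refine ⟨fun i => ?_, ?_⟩
    · show (w.1 i + (z.1 i + z.1 i) - w.1 i) % 2 = 0
      omega
    · rw [show (fun i => ((w + (z + z) : leechLattice).1 i - w.1 i) / 2) = z.1 from funext fun i => by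
        show (w.1 i + (z.1 i + z.1 i) - w.1 i) / 2 = z.1 i
        omega]
      exact inLeech_of_mem z.2
  · rintro ⟨h1, h2⟩
    refine ⟨⟨_, mem_of_inLeech h2⟩, Subtype.ext (funext fun i => ?_)⟩
    show v.1 i = w.1 i + ((v.1 i - w.1 i) / 2 + (v.1 i - w.1 i) / 2)
    have := h1 i
    omega

end Cfsg.Agent.H74.Monster
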