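import Cfsg.Agent.H92.LeechStab

/-!
An additive subgroup of the lattice containing the doubles, an axis vector, stable under the sign
changes and with at least 2^12 classes modulo doubles contains a vector of squared length 32.
-/

set_option autoImplicit false

namespace Cfsg.Agent.H74.Monster

open Cfsg Cfsg.Agent.Golay Cfsg.Agent.H92.LeechTwo
open Cfsg.Agent.H92.Leech (vec vec_apply)

theorem nrm_vec {i j : GolayPt} (hij : i ≠ j) : nrm (vec i j) = 32 := by
  show sqNorm (vec i j : GolayPt → ℤ) = 32
  rw [show ((vec i j : GolayPt → ℤ)) = fun p =>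
    4 * ((if p = i then (1 : ℤ) else 0) + (if p = j then 1 else 0)) from funext (vec_apply i j)]
  exact (vec_facts i j hij).1

/-- masks of code words meeting every nontrivial word or its complement in two points -/
def testList : List ℕ := [5279, 31554, 504864, 7903248, 8999616, 9589508, 10506593, 115766]

theorem test_facts : (testList.all inCode && codeList.all fun c => c == 0 || c == fullMask ||
    testList.any fun d => popCnt (c &&& d) == 2 || popCnt ((fullMask ^^^ c) &&& d) == 2) = true := by
  decide +kernel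

theorem octad_facts : (5279 : ℕ) ∈ codeList ∧ (31554 : ℕ) ∈ codeList ∧ popCnt (5279 &&& 31554) = 2 := by
  refine ⟨inCode_iff.1 (by decide +kernel), inCode_iff.1 (by decide +kernel), by decide +kernel⟩

variable {A : Type*} [AddGroup A] [Finite A]

section closed

variable (W : AddSubgroup leechLattice) (hax : ∀ i, axisVec i ∈ W)
  (hsign : ∀ (m : ℕ) (hm : m ∈ codeList), ∀ w ∈ W, sg m hm • w ∈ W)

include hax in
theorem vec_mem {w : leechLattice} (hw : w ∈ W) {i j : GolayPt}
    (h : ∀ p, ∃ k : ℤ, w.1 p = (vec i j).1 p + 8 * k) : vec i j ∈ W := by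
  choose k hk using h
  have he : vec i j = w - ∑ p, k p • axisVec p := by
    refine Subtype.ext (funext fun q => ?_)
    rw [AddSubgroupClass.coe_sub, Pi.sub_apply, AddSubmonoidClass.coe_finsetSum, Finset.sum_apply,
      Finset.sum_eq_single q]
    · rw [hk q]
      simp [axisVec]
      ring
    · intro p _ hp
      simp [axisVec, Ne.symm hp]
    · simp
  rw [he]
  exact W.sub_mem hw (W.sum_mem fun p _ => W.zsmul_mem (hax p) _)

include hax hsign in
/-- an even vector and a sign change meeting its pattern twice give a short vector -/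
theorem even_step {y : leechLattice} (hy : y ∈ W) (he : ∀ i, y.1 i % 2 = 0) {d : ℕ} (hd : d ∈ codeList)
    (hcard : (Finset.univ.filter fun p => y.1 p / 2 % 2 = 1 ∧ d.testBit (idx p) = true).card = 2) :
    ∃ i j, i ≠ j ∧ vec i j ∈ W := by
  obtain ⟨i, j, hij, hs⟩ := Finset.card_eq_two.1 hcard
  refine ⟨i, j, hij, vec_mem W hax (W.sub_mem (hsign d hd y hy) hy) fun p => ?_⟩
  have hp := Finset.ext_iff.1 hs p
  simp only [Finset.mem_filter, Finset.mem_univ, true_and, Finset.mem_insert, Finset.mem_singleton] at hp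
  rw [AddSubgroupClass.coe_sub, Pi.sub_apply, sg_apply, vec_apply]
  have := he p
  by_cases h : p = i ∨ p = j
  · obtain ⟨h1, h2⟩ := hp.2 h
    rw [h2, if_pos rfl]
    refine ⟨(-2 * y.1 p - 4) / 8, ?_⟩
    rcases h with rfl | rfl
    · rw [if_pos rfl, if_neg hij]; omega
    · rw [if_neg hij.symm, if_pos rfl]; omega
  · have h' := fun hh => h (hp.1 hh)
    push Not at h
    rw [if_neg h.1, if_neg h.2]
    cases hb : d.testBit (idx p)
    · exact ⟨0, by simp⟩
    · refine ⟨-2 * y.1 p / 8, ?_⟩
      have hn : ¬ y.1 p / 2 % 2 = 1 := fun hh => h' ⟨hh, hb⟩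
      simp only [if_true, add_zero, mul_zero]
      omega

end closed

/-- vectors with all coordinates divisible by four -/
def fourVecs : AddSubgroup leechLattice where
  carrier := {y | ∀ i, y.1 i % 4 = 0}
  zero_mem' := fun i => by simp
  add_mem' := by
    intro a b ha hb i
    show (a.1 i + b.1 i) % 4 = 0
    have := ha i; have := hb i
    omega
  neg_mem' := by
    intro a ha i
    show (-a.1 i) % 4 = 0
    have := ha i
    omega

theorem code_sum {v : GolayPt → ZMod 2} (hv : v ∈ golayCode) : ∑ i, v i = 0 := by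
  have h : Cfsg.Agent.H92.Golay.dot v 1 = 0 := Cfsg.Agent.H92.Golay.dot_eq_zero hv one_mem_golayCode
  rw [← h, Cfsg.Agent.H92.Golay.dot]
  refine Finset.sum_congr rfl fun i _ => ?_
  rw [Pi.one_apply, mul_one]

theorem four_fibre {y y' : leechLattice} (hy : y ∈ fourVecs) (hy' : y' ∈ fourVecs)
    (h : (fun i => (((y.1 i / 4 : ℤ)) : ZMod 2)) - (fun i => ((y'.1 i / 4 : ℤ) : ZMod 2)) ∈ golayCode) :
    ∃ w : leechLattice, y = y' + (w + w) ∨ y = y' + (axisVec none + (w + w)) := by
  set b : GolayPt → ℤ := fun i => y.1 i / 4 - y'.1 i / 4 with hb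
  have hb2 : (fun i => (b i : ZMod 2)) ∈ golayCode := by
    convert h using 1
    funext i
    simp [hb]
  have hs : (∑ i, b i) % 2 = 0 := by
    have h1 := quarter_sum hy
    have h2 := quarter_sum hy'
    simp only [hb, Finset.sum_sub_distrib]
    omega
  by_cases h4 : (∑ i, b i) % 4 = 0
  · refine ⟨⟨2 • b, mem_leech_two_smul.2 ⟨hb2, h4⟩⟩, Or.inl (Subtype.ext (funext fun i => ?_))⟩
    show y.1 i = y'.1 i + ((2 • b) i + (2 • b) i)
    simp [hb]
    have := hy i; have := hy' i
    omega
  · let b' : GolayPt → ℤ := fun i => b i - if i = none then 2 else 0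
    refine ⟨⟨2 • b', mem_leech_two_smul.2 ⟨?_, ?_⟩⟩, Or.inr (Subtype.ext (funext fun i => ?_))⟩
    · convert hb2 using 1
      funext i
      simp only [b']
      split_ifs <;> simp
      rfl
    · simp only [b', Finset.sum_sub_distrib, Finset.sum_ite_eq', Finset.mem_univ, if_true]
      omega
    · show y.1 i = y'.1 i + ((Pi.single none 8 : GolayPt → ℤ) i + ((2 • b') i + (2 • b') i))
      rw [Pi.single_apply]
      simp [b', hb]
      have := hy i; have := hy' i
      split_ifs <;> omega

theorem card_four_le (f : leechLattice →+ A) (hf : ∀ w, f (w + w) = 0) :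
    Nat.card (fourVecs.map f) ≤ 2 ^ 12 := by
  classical
  let C := (golayCode : Submodule (ZMod 2) (GolayPt → ZMod 2)).toAddSubgroup
  let sm : (GolayPt → ZMod 2) →+ ZMod 2 := AddMonoidHom.mk' (fun v => ∑ i, v i)
    fun a b => by simp [Finset.sum_add_distrib]
  let σ : (GolayPt → ZMod 2) ⧸ C →+ ZMod 2 := QuotientAddGroup.lift C sm fun v hv =>
    AddMonoidHom.mem_ker.2 (code_sum hv)
  have hker : Nat.card σ.ker * 2 = 2 ^ 12 := by
    have hsur : Function.Surjective σ := fun a =>
      ⟨(QuotientAddGroup.mk (Pi.single none a) : (GolayPt → ZMod 2) ⧸ C), by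
        show ∑ i, (Pi.single none a : GolayPt → ZMod 2) i = a
        simp⟩
    have h1 := σ.ker.card_mul_index
    rw [AddSubgroup.index_ker, AddMonoidHom.range_eq_top.2 hsur, AddSubgroup.card_top, Nat.card_zmod] at h1
    rw [h1]
    have h2 := C.card_eq_card_quotient_mul_card_addSubgroup
    rw [show Nat.card C = 4096 from card_golayCode, Nat.card_fun, Nat.card_zmod, Nat.card_eq_fintype_card (α := GolayPt)] at h2
    rw [show Fintype.card GolayPt = 24 from rfl] at h2
    omega
  let q : leechLattice → (GolayPt → ZMod 2) ⧸ C :=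
    fun y => QuotientAddGroup.mk fun i => ((y.1 i / 4 : ℤ) : ZMod 2)
  have hq : ∀ y ∈ fourVecs, q y ∈ σ.ker := by
    intro y hy
    rw [AddMonoidHom.mem_ker]
    show ∑ i, ((y.1 i / 4 : ℤ) : ZMod 2) = 0
    rw [← Int.cast_sum, ZMod.intCast_zmod_eq_zero_iff_dvd]
    exact Int.dvd_of_emod_eq_zero (quarter_sum hy)
  let sec : σ.ker → leechLattice := fun c =>
    if h : ∃ y ∈ fourVecs, q y = c then h.choose else 0
  have hsec : ∀ y (hy : y ∈ fourVecs), f y = f (sec ⟨q y, hq y hy⟩) ∨
      f y = f (sec ⟨q y, hq y hy⟩) + f (axisVec none) := by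
    intro y hy
    have h : ∃ y' ∈ fourVecs, q y' = q y := ⟨y, hy, rfl⟩
    simp only [sec, dif_pos h]
    obtain ⟨hy', he⟩ := h.choose_spec
    have hc := (QuotientAddGroup.eq (s := C)).1 he
    rw [neg_add_eq_sub] at hc
    obtain ⟨w, hw | hw⟩ := four_fibre hy hy' hc
    · left; nth_rewrite 1 [hw]; rw [map_add, hf, add_zero]
    · right; nth_rewrite 1 [hw]; rw [map_add, map_add, hf, add_zero]
  let pre : fourVecs.map f → leechLattice := fun u => u.2.choose
  have hpre : ∀ u, pre u ∈ fourVecs ∧ f (pre u) = u.1 := fun u => u.2.choose_spec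
  let key : fourVecs.map f → σ.ker × Bool := fun u =>
    (⟨q (pre u), hq _ (hpre u).1⟩, decide (f (pre u) = f (sec ⟨q (pre u), hq _ (hpre u).1⟩)))
  have hinj : Function.Injective key := by
    intro u v h
    obtain ⟨h1, h2⟩ := Prod.mk.inj h
    apply Subtype.ext
    rw [← (hpre u).2, ← (hpre v).2]
    rw [decide_eq_decide, h1] at h2
    have a := hsec _ (hpre u).1
    have b := hsec _ (hpre v).1
    rw [h1] at a
    rcases a with a | a
    · exact a.trans (h2.1 a).symm
    · rcases b with b | b
      · exact (h2.2 b).trans b.symm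
      · exact a.trans b.symm
  refine (Nat.card_le_card_of_injective key hinj).trans ?_
  rw [Nat.card_prod, Nat.card_eq_fintype_card (α := Bool), Fintype.card_bool, hker]

/-- a large sign-stable subgroup through an axis contains a short vector -/
theorem exists_short_mem (f : leechLattice →+ A)
    (hker : ∀ w, f w = 0 ↔ ∃ u, w = u + u)
    (W : AddSubgroup leechLattice) (hdbl : ∀ u, u + u ∈ W) (ha : axisVec none ∈ W)
    (hsign : ∀ (m : ℕ) (hm : m ∈ codeList), ∀ w ∈ W, sg m hm • w ∈ W)
    (hbig : 2 ^ 12 ≤ Nat.card (W.map f)) :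
    ∃ v ∈ W, nrm v = 32 := by
  classical
  suffices ∃ i j, i ≠ j ∧ vec i j ∈ W by
    obtain ⟨i, j, hij, h⟩ := this
    exact ⟨_, h, nrm_vec hij⟩
  by_contra hno
  have hax : ∀ i, axisVec i ∈ W := fun i => by
    obtain ⟨u, hu⟩ := axis_congr i none
    rw [hu]; exact W.add_mem ha (hdbl u)
  have hf : ∀ u, f (u + u) = 0 := fun u => (hker _).2 ⟨u, rfl⟩
  have hbitp : ∀ (y : GolayPt → ℤ) (p : GolayPt),
      (wordMask (digitWord y)).testBit (idx p) = decide (y p / 2 % 2 = 1) := digit_bit
  have htest := test_facts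
  simp only [Bool.and_eq_true, List.all_eq_true, Bool.or_eq_true, beq_iff_eq, List.any_eq_true] at htest
  have hev : ∀ y ∈ W, (∀ i, y.1 i % 2 = 0) → ∃ y' ∈ fourVecs, f y' = f y := by
    intro y hy he
    obtain ⟨m, hm⟩ := mem_leech_iff.1 y.2
    have hc : wordMask (digitWord y.1) ∈ codeList := mem_golayCode_iff.1 hm.2.2
    rcases htest.2 _ hc with (h0 | h1) | ⟨d, hd, hd2⟩
    · refine ⟨y, fun i => ?_, rfl⟩
      have := hbitp y.1 i
      rw [h0] at this
      have := he i
      simp at *
      omega
    · refine ⟨y + (repC + repC), fun i => ?_, by rw [map_add, hf, add_zero]⟩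
      have hd := hbitp y.1 i
      rw [h1, show fullMask.testBit (idx i) = true by
        rw [← mem_ptSet, ptSet_fullMask]; exact Finset.mem_univ _] at hd
      simp at hd
      have := he i
      have := repC_odd i
      show (y.1 i + (oddMin i + oddMin i)) % 4 = 0
      omega
    · exfalso
      apply hno
      have hdc : d ∈ codeList := inCode_iff.1 (htest.1 d hd)
      rcases hd2 with h | h
      · refine even_step W hax hsign hy he hdc ?_
        rw [← h, ← card_ptSet]
        congr 1
        ext p
        simp [hbitp]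
      · refine even_step W hax hsign (W.add_mem hy (hdbl repC)) (fun i => ?_) hdc ?_
        · show (y.1 i + (oddMin i + oddMin i)) % 2 = 0
          have := he i; omega
        · rw [← h, ← card_ptSet]
          congr 1
          ext p
          have hfull : fullMask.testBit (idx p) = true := by
            rw [← mem_ptSet, ptSet_fullMask]; exact Finset.mem_univ _
          simp only [Finset.mem_filter, Finset.mem_univ, true_and, mem_ptSet, Nat.testBit_and,
            Nat.testBit_xor, hfull, hbitp, Bool.and_eq_true]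
          refine and_congr_left fun _ => ?_
          have := he p
          have := repC_odd p
          show (y.1 p + (oddMin p + oddMin p)) / 2 % 2 = 1 ↔ _
          simp
          omega
  have hall : ∀ y ∈ W, ∃ y' ∈ fourVecs, f y' = f y := by
    intro y hy
    obtain ⟨m, hm⟩ := mem_leech_iff.1 y.2
    by_cases hm2 : m % 2 = 0
    · exact hev y hy fun i => by rw [hm.1 i, hm2]
    exfalso
    apply hno
    obtain ⟨hO, hD, hOD⟩ := octad_facts
    refine even_step W hax hsign (W.sub_mem (hsign _ hO y hy) hy) (fun i => ?_) hD ?_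
    · rw [AddSubgroupClass.coe_sub, Pi.sub_apply, sg_apply]
      split_ifs <;> omega
    · rw [← hOD, ← card_ptSet]
      congr 1
      ext p
      simp only [Finset.mem_filter, Finset.mem_univ, true_and, mem_ptSet, Nat.testBit_and, Bool.and_eq_true]
      refine and_congr_left fun _ => ?_
      rw [AddSubgroupClass.coe_sub, Pi.sub_apply, sg_apply]
      have := hm.1 p
      cases (5279 : ℕ).testBit (idx p) <;> simp <;> omega
  have hle : W.map f ≤ fourVecs.map f := by
    rintro _ ⟨y, hy, rfl⟩
    obtain ⟨y', hy', he⟩ := hall y hy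
    exact ⟨y', hy', he⟩
  have heq := AddSubgroup.eq_of_le_of_card_ge hle ((card_four_le f hf).trans hbig)
  obtain ⟨w, hw, hwe⟩ : f (vec none (some 0)) ∈ W.map f := by
    rw [heq]
    exact ⟨_, fun p => by rw [vec_apply]; omega, rfl⟩
  apply hno
  refine ⟨none, some 0, by decide, ?_⟩
  have h0 : f (vec none (some 0) - w) = 0 := by rw [map_sub, hwe, sub_self]
  obtain ⟨u, hu⟩ := (hker _).1 h0
  rw [sub_eq_iff_eq_add.1 hu]
  exact W.add_mem (hdbl u) hw

end Cfsg.Agent.H74.Monster
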