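import Cfsg.Agent.H92.MonsterCross
import Cfsg.Agent.H74.Monster.Pairs

/-!
In a group of Monster type an involution of the large group outside the class of the central
involution is fixed by an element moving the central involution into the large group.
-/

set_option autoImplicit false

namespace Cfsg.Agent.H74.Monster

open Cfsg Cfsg.Agent.Golay Cfsg.Agent.H92.LeechTwo Cfsg.Agent.H92.MonsterQ

theorem co0_central_fix {c : Co0} (hc : c ∈ Subgroup.center Co0) {u : leechLattice}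
    (hu : nrm u = 32) (h : c • u = u) : c = 1 := by
  refine co0_ext fun x => ?_
  rw [one_smul]
  induction x using leech_induction with
  | hmin a ha =>
    obtain ⟨g, rfl⟩ := co0_transitive_min u a hu ha
    rw [← mul_smul, ← Subgroup.mem_center_iff.1 hc g, mul_smul, h]
  | h0 => exact co0_smul_zero c
  | hadd a b iha ihb => rw [co0_smul_add, iha, ihb]
  | hneg a iha => rw [co0_smul_neg, iha]

theorem exists_negation :
    ∃ N : Co0, N ∈ Subgroup.center Co0 ∧ ∀ v : leechLattice, N • v = -v := by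
  refine ⟨signAut ⟨Finset.univ, univ_mem_supports⟩, ?_, ?_⟩
  swap
  · intro v
    refine Subtype.ext (funext fun l => ?_)
    rw [signAut_apply, if_pos (Finset.mem_univ l)]
    rfl
  have hN : ∀ v : leechLattice, signAut ⟨Finset.univ, univ_mem_supports⟩ • v = -v := fun v => by
    refine Subtype.ext (funext fun l => ?_)
    rw [signAut_apply, if_pos (Finset.mem_univ l)]
    rfl
  exact Subgroup.mem_center_iff.2 fun g => co0_ext fun v => by
    rw [mul_smul, mul_smul, hN, hN, co0_smul_neg]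

variable {G : Type*} [Group G] [Finite G] {z : G}
  {Q : Subgroup (Subgroup.centralizer ({z} : Set G))} [Q.Normal]
  {e : (Subgroup.centralizer ({z} : Set G)) ⧸ Q ≃* Spor.Co1}
  {ψ : leechLattice → Q ⧸ Subgroup.center Q}

omit [Finite G] in
theorem exists_twist (S : Setting z Q e ψ) (γ : Co0) :
    ∃ (e' : (Subgroup.centralizer ({z} : Set G)) ⧸ Q ≃* Spor.Co1)
      (ψ' : leechLattice → Q ⧸ Subgroup.center Q),
      Setting z Q e' ψ' ∧ ∀ w, ψ' (γ • w) = ψ w := by
  refine ⟨e.trans (MulAut.conj (QuotientGroup.mk γ : Spor.Co1)), fun w => ψ (γ⁻¹ • w),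
    ⟨S.setting, fun v w => ?_, fun q => ?_, fun v => ?_, ?_⟩, fun w => by simp⟩
  · show ψ (γ⁻¹ • (v + w)) = _
    rw [co0_smul_add, S.iso.1]
  · obtain ⟨v, hv⟩ := S.iso.2.1 q
    exact ⟨γ • v, by simpa using hv⟩
  · show ψ (γ⁻¹ • v) = 1 ↔ _
    rw [S.iso.2.2.1]
    constructor
    · rintro ⟨w, hw⟩
      exact ⟨γ • w, by rw [← co0_smul_add, ← hw, smul_inv_smul]⟩
    · rintro ⟨w, rfl⟩
      exact ⟨γ⁻¹ • w, co0_smul_add _ _ _⟩
  · intro h g hg v q hv
    have hg' : (QuotientGroup.mk (γ⁻¹ * g * γ) : Spor.Co1) = e (QuotientGroup.mk h) := by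
      rw [QuotientGroup.mk_mul, QuotientGroup.mk_mul, QuotientGroup.mk_inv, hg]
      simp [MulEquiv.trans_apply, MulAut.conj_apply, mul_assoc]
    have := S.iso.2.2.2 h _ hg' (γ⁻¹ • v) q hv
    rw [← this]
    show ψ (γ⁻¹ • (g • v)) = _
    congr 1
    simp [mul_smul]

theorem not_conj_of_short (S : Setting z Q e ψ) {x : Q} {v : leechLattice}
    (hv : ψ v = QuotientGroup.mk x) (hn : nrm v = 32) : ¬ IsConj z (vG x) := by
  intro hc
  obtain ⟨zQ, hzv, -, -, hZ⟩ := exists_zQ S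
  have hne : vG x ≠ z := fun he =>
    not_center_of_rep S hv (Or.inl hn) ((hZ x).2 (Or.inr (vG_injective (he.trans hzv.symm))))
  obtain ⟨w, hw, hwn⟩ := conj_z_type S hc hne
  rw [← hv, psi_cg S] at hw
  rcases short_unique hw (by omega) with h | h | ⟨h, -⟩
  · rw [h, hwn] at hn; norm_num at hn
  · rw [h, nrm_neg, hwn] at hn; norm_num at hn
  · omega

theorem short_class (S : Setting z Q e ψ) {x : Q} (hx : x ∉ Subgroup.center Q) (hx2 : x * x = 1)
    (hn : ¬ IsConj z (vG x)) : ∃ v, ψ v = QuotientGroup.mk x ∧ nrm v = 32 := by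
  obtain ⟨v, hv, h | h⟩ := type_of_involution S hx hx2
  · exact ⟨v, hv, h⟩
  · exact absurd (isConj_of_type S hv h).1 hn

theorem exists_move (S : Setting z Q e ψ) {x : Q} {v : leechLattice}
    (hv : ψ v = QuotientGroup.mk x) (hn : nrm v = 32) :
    ∃ g : G, g * vG x * g⁻¹ = vG x ∧
      g * z * g⁻¹ ∈ Q.map (Subgroup.centralizer ({z} : Set G)).subtype ∧ g * z * g⁻¹ ≠ z := by
  classical
  obtain ⟨x0, hc0, hne0, v0, hv0, hn0⟩ := exists_conj_type S
  obtain ⟨g0, hg0⟩ := isConj_iff.1 hc0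
  obtain ⟨γ, hγ⟩ := orbit_sixtyfour hn0 (nrm_axis none)
  obtain ⟨e', ψ', S', hψ'⟩ := exists_twist S γ
  have hax0 : ψ' (axisVec none) = QuotientGroup.mk x0 := by
    rw [← (psi_cg S').2 hγ, hψ', hv0]
  have hxc0 : x0 ∉ Subgroup.center Q := not_center_of_rep S hv0 (Or.inr (Or.inr hn0))
  obtain ⟨-, -, -, -, -, -, -, -, -, -, -, -, -, -, -, -, hI⟩ :=
    Cfsg.Agent.H92.MonsterCross.cross S g0 hg0 hne0
  obtain ⟨hzQm, hconj⟩ := map_setting S
  set Qm := Q.map (Subgroup.centralizer ({z} : Set G)).subtype with hQm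
  set I := Qm ⊓ Qm.map (MulAut.conj g0).toMonoidHom with hIdef
  have memI : ∀ a, a ∈ I ↔ a ∈ Qm ∧ g0⁻¹ * a * g0 ∈ Qm := fun a => by
    rw [hIdef, Subgroup.mem_inf, Subgroup.mem_map_equiv (f := MulAut.conj g0)]
    simp [MulAut.conj_symm_apply, mul_assoc]
  let j : Q →* G := (Subgroup.centralizer ({z} : Set G)).subtype.comp Q.subtype
  let f : leechLattice →+ Additive (Q ⧸ Subgroup.center Q) :=
    AddMonoidHom.mk' (fun w => Additive.ofMul (ψ' w)) fun a b => by
      show Additive.ofMul (ψ' (a + b)) = _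
      rw [S'.iso.1]
      rfl
  let W : AddSubgroup leechLattice :=
    { carrier := {w | ∃ y : Q, vG y ∈ I ∧ ψ' w = QuotientGroup.mk y}
      zero_mem' := ⟨1, I.one_mem, by rw [psi_zero S']; rfl⟩
      add_mem' := by
        rintro a b ⟨y, hy, hay⟩ ⟨y', hy', hby⟩
        exact ⟨y * y', I.mul_mem hy hy', by rw [S'.iso.1, hay, hby]; rfl⟩
      neg_mem' := by
        rintro a ⟨y, hy, hay⟩
        exact ⟨y, hy, by rw [← hay, psi_cg S']; exact Cg.neg_self a⟩ }
  have hzs : g0⁻¹ * vG x0 * g0 = z := by rw [← hg0]; group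
  have hW := exists_short_mem f (fun w => (ofMul_eq_zero (A := Q ⧸ Subgroup.center Q)).trans (S'.iso.2.2.1 w))
    W (fun u => ⟨1, I.one_mem, by rw [(S'.iso.2.2.1 _).2 ⟨u, rfl⟩]; rfl⟩)
    ⟨x0, (memI _).2 ⟨⟨_, x0.2, rfl⟩, by rw [hzs]; exact hzQm⟩, hax0⟩
    (by
      rintro m hm w ⟨y, hy, hwy⟩
      obtain ⟨h, hh⟩ := exists_lift S' (sg m hm)
      have e1 := psi_smul S' hh hax0
      have hsa : Cg (sg m hm • axisVec none) (axisVec none) := by
        have : sg m hm • axisVec none = axisVec none ∨ sg m hm • axisVec none = -axisVec none := by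
          cases hb : m.testBit (idx none)
          · refine Or.inl (Subtype.ext (funext fun i => ?_))
            rw [sg_apply]
            rcases eq_or_ne i none with rfl | hi
            · rw [hb]; rfl
            · simp [axisVec, hi]
          · refine Or.inr (Subtype.ext (funext fun i => ?_))
            rw [sg_apply]
            rcases eq_or_ne i none with rfl | hi
            · rw [hb]; rfl
            · simp [axisVec, hi]
        rcases this with h | h <;> rw [h]
        · exact Cg.refl _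
        · exact Cg.neg_self _
      rw [(psi_cg S').2 hsa, hax0] at e1
      obtain ⟨h', h1, h2⟩ := conj_fix S' hxc0 h e1.symm
      have h2' : (h' : G) * vG x0 * (h' : G)⁻¹ = vG x0 := congrArg vG h2
      have hh' : (QuotientGroup.mk (sg m hm) : Spor.Co1) = e' (QuotientGroup.mk h') := by rw [h1, hh]
      refine ⟨conjQ h' y, (memI _).2 ⟨⟨_, (conjQ h' y).2, rfl⟩, ?_⟩, psi_smul S' hh' hwy⟩
      have hback : g0⁻¹ * (h' : G) * g0 ∈ Subgroup.centralizer ({z} : Set G) := by
        rw [Subgroup.mem_centralizer_singleton_iff]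
        have key : g0⁻¹ * (h' : G) * g0 * (g0⁻¹ * vG x0 * g0) =
            g0⁻¹ * vG x0 * g0 * (g0⁻¹ * (h' : G) * g0) := by
          calc g0⁻¹ * (h' : G) * g0 * (g0⁻¹ * vG x0 * g0) = g0⁻¹ * ((h' : G) * vG x0) * g0 := by group
            _ = g0⁻¹ * (vG x0 * (h' : G)) * g0 := by rw [mul_inv_eq_iff_eq_mul.1 h2']
            _ = g0⁻¹ * vG x0 * g0 * (g0⁻¹ * (h' : G) * g0) := by group
        rwa [hzs] at key
      have := hconj _ ((memI _).1 hy).2 _ hback
      convert this using 1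
      show g0⁻¹ * ((h' : G) * vG y * (h' : G)⁻¹) * g0 = _
      group)
    (by
      set Hj := I.comap j with hHj
      have hj : Function.Injective j := vG_injective
      have hcardH : Nat.card Hj = 2 ^ 13 := by
        rw [← hI]
        refine Nat.card_congr (Equiv.ofBijective (fun q : Hj => (⟨vG (q : Q), q.2⟩ : I)) ⟨?_, ?_⟩)
        · exact fun a b h => Subtype.ext (hj (congrArg (fun u : I => (u : G)) h))
        · intro a
          obtain ⟨⟨c, hc, hca⟩, -⟩ := (memI _).1 a.2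
          exact ⟨⟨⟨c, hc⟩, show vG (⟨c, hc⟩ : Q) ∈ I by rw [show vG (⟨c, hc⟩ : Q) = (a : G) from hca]; exact a.2⟩,
            Subtype.ext hca⟩
      have h1 := Cfsg.Agent.H92.MonsterCross.card_map_mul (QuotientGroup.mk' (Subgroup.center Q)) Hj
      have h2 : Nat.card (Hj ⊓ (QuotientGroup.mk' (Subgroup.center Q)).ker : Subgroup Q) ≤ 2 := by
        rw [QuotientGroup.ker_mk', ← cq S]
        exact Subgroup.card_le_of_le inf_le_right
      have h3 : Nat.card (Hj.map (QuotientGroup.mk' (Subgroup.center Q))) ≤ Nat.card (W.map f) := by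
        refine Nat.card_le_card_of_injective (fun u => (⟨Additive.ofMul u.1, ?_⟩ : W.map f))
          fun a b h => Subtype.ext (congrArg (fun w : W.map f => Additive.toMul w.1) h)
        obtain ⟨y, hy, hyu⟩ := u.2
        obtain ⟨w, hw⟩ := S'.iso.2.1 u.1
        exact ⟨w, ⟨y, hy, hw.trans hyu.symm⟩, congrArg Additive.ofMul hw⟩
      rw [hcardH] at h1
      have := Nat.mul_le_mul h3 h2
      omega)
  obtain ⟨v1, ⟨y, hyI, hv1⟩, hn1⟩ := hW
  have hyc : y ∉ Subgroup.center Q := not_center_of_rep S' hv1 (Or.inl hn1)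
  have hy2 : y * y = 1 := by
    refine dl_eq_zero.1 (((forms S').1 v1 y hv1).trans ?_)
    rw [q2, hn1]; decide
  have hync : ¬ IsConj z (vG y) := not_conj_of_short S' hv1 hn1
  obtain ⟨c, hc, hcy⟩ := ((memI _).1 hyI).2
  set y2 : Q := ⟨c, hc⟩
  have hy2v : vG y2 = g0⁻¹ * vG y * g0 := hcy
  have hy2c : y2 ∉ Subgroup.center Q := by
    obtain ⟨zQ, hzv, -, -, hZ⟩ := exists_zQ S
    intro h
    rcases (hZ _).1 h with h | h
    · apply hyc
      have h' : vG y2 = 1 := congrArg vG h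
      rw [hy2v] at h'
      have : y = 1 := vG_injective (show vG y = 1 by
        calc vG y = g0 * (g0⁻¹ * vG y * g0) * g0⁻¹ := by group
          _ = 1 := by rw [h']; group)
      rw [this]; exact one_mem _
    · apply hync
      have h' : g0⁻¹ * vG y * g0 = z := hy2v.symm.trans ((congrArg vG h).trans hzv)
      refine isConj_iff.2 ⟨g0, ?_⟩
      calc g0 * z * g0⁻¹ = g0 * (g0⁻¹ * vG y * g0) * g0⁻¹ := by rw [h']
        _ = vG y := by group
  have hy2s : y2 * y2 = 1 := vG_injective (by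
    show vG y2 * vG y2 = 1
    rw [hy2v, show g0⁻¹ * vG y * g0 * (g0⁻¹ * vG y * g0) = g0⁻¹ * vG (y * y) * g0 from by
      show _ = g0⁻¹ * (vG y * vG y) * g0
      group, hy2]
    show g0⁻¹ * 1 * g0 = 1
    group)
  have hy2n : ¬ IsConj z (vG y2) := fun h => hync (h.trans (isConj_iff.2 ⟨g0, by rw [hy2v]; group⟩))
  obtain ⟨w1, hw1, hwn1⟩ := short_class S hyc hy2 hync
  obtain ⟨w2, hw2, hwn2⟩ := short_class S hy2c hy2s hy2n
  obtain ⟨c1, hc1⟩ := conj_of_same S hw1 hv (Or.inl ⟨hwn1, hn⟩)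
  obtain ⟨c2, hc2⟩ := conj_of_same S hw2 hv (Or.inl ⟨hwn2, hn⟩)
  have hcz : ∀ c : Subgroup.centralizer ({z} : Set G), (c : G) * z * (c : G)⁻¹ = z := fun c => by
    rw [Subgroup.mem_centralizer_singleton_iff.1 c.2, mul_inv_cancel_right]
  have hgz : (c1 : G) * g0 * (c2 : G)⁻¹ * z * ((c1 : G) * g0 * (c2 : G)⁻¹)⁻¹ =
      (c1 : G) * vG x0 * (c1 : G)⁻¹ := by
    rw [← hg0]
    calc _ = (c1 : G) * g0 * ((c2 : G)⁻¹ * z * (c2 : G)) * g0⁻¹ * (c1 : G)⁻¹ := by group
      _ = _ := by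
        have := hcz c2⁻¹
        simp only [Subgroup.coe_inv, inv_inv] at this
        rw [this]; group
  refine ⟨(c1 : G) * g0 * (c2 : G)⁻¹, ?_, ?_, ?_⟩
  · nth_rewrite 1 [← hc2]
    rw [← hc1, hy2v]
    group
  · rw [hgz]
    exact hconj _ ⟨_, x0.2, rfl⟩ _ c1.2
  · rw [hgz]
    intro h
    apply hne0
    calc vG x0 = (c1 : G)⁻¹ * ((c1 : G) * vG x0 * (c1 : G)⁻¹) * (c1 : G) := by group
      _ = (c1 : G)⁻¹ * ((c1 : G) * z * (c1 : G)⁻¹) * (c1 : G) := by rw [h, hcz]
      _ = z := by group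

end Cfsg.Agent.H74.Monster
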