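import Cfsg.Agent.H74.Monster.OddLift
import Cfsg.Agent.H92.ExtraIso
import Cfsg.Agent.H92.QuotOdd
import Cfsg.Agent.Components.PLocal

/-!
In a group of Monster type the centraliser of an element of odd prime order centralising two
commuting conjugates of the central involution, modulo it, is an extraspecial centraliser setting
determined by the centraliser in Co0 (structure of the proof after helper65's five case).
-/

set_option autoImplicit false
set_option maxHeartbeats 1000000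

namespace Cfsg.Agent.H74.Monster

open Cfsg Cfsg.Agent.Golay Cfsg.Agent.H92.LeechTwo Cfsg.Agent.H92.MonsterQ
open Cfsg.Agent.H65.MonsterFive (phi phi_eq_one mem_centralizer_zpowers)

variable {G : Type*} [Group G] [Finite G] {z : G}
  {Q : Subgroup (Subgroup.centralizer ({z} : Set G))} [Q.Normal]
  {e : (Subgroup.centralizer ({z} : Set G)) ⧸ Q ≃* Spor.Co1}
  {ψ : leechLattice → Q ⧸ Subgroup.center Q}

/-- commuting modulo the centre with an element of odd order is commuting -/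
theorem cent_of_commute {p : ℕ} (hp : Odd p) {γ g : Co0} (hγ : γ ^ p = 1)
    (h : (QuotientGroup.mk g : Spor.Co1) * QuotientGroup.mk γ =
      QuotientGroup.mk γ * QuotientGroup.mk g) : g ∈ Subgroup.centralizer ({γ} : Set Co0) := by
  rw [← QuotientGroup.mk_mul, ← QuotientGroup.mk_mul] at h
  have hc := QuotientGroup.eq.1 h.symm
  set c := (γ * g)⁻¹ * (g * γ) with hc'
  have e1 : g * γ * g⁻¹ = γ * c := by
    have h2 : γ * g * c = g * γ := by rw [hc', mul_inv_cancel_left]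
    rw [mul_assoc γ g c, Subgroup.mem_center_iff.1 hc g, ← mul_assoc] at h2
    rw [← h2, mul_inv_cancel_right]
  have h5 : c ^ p = 1 := by
    have h3 : (g * γ * g⁻¹) ^ p = 1 := by rw [conj_pow, hγ, mul_one, mul_inv_cancel]
    rw [e1, (show Commute γ c from Subgroup.mem_center_iff.1 hc γ).mul_pow, hγ, one_mul] at h3
    exact h3
  have h2 : c = 1 := by
    have hd := orderOf_dvd_natCard (⟨c, hc⟩ : Subgroup.center Co0)
    rw [card_center_co0, ← Subgroup.orderOf_coe] at hd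
    exact orderOf_eq_one_iff.1 (Nat.eq_one_of_dvd_coprimes (Nat.coprime_two_left.2 hp) hd
      (orderOf_dvd_of_pow_eq_one h5))
  rw [h2, mul_one, mul_inv_eq_iff_eq_mul] at e1
  exact Subgroup.mem_centralizer_singleton_iff.2 e1

/-- an element of odd order fixing a class fixes its lifts -/
theorem commute_of_class (S : Setting z Q e ψ) {p : ℕ} (hp : Odd p) {b : Subgroup.centralizer ({z} : Set G)}
    (hb : b ^ p = 1) {q : Q} (h : (QuotientGroup.mk (conjQ b q) : Q ⧸ Subgroup.center Q) = QuotientGroup.mk q) :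
    (b : G) * vG q = vG q * b := by
  obtain ⟨zQ, hzv, hz1, hz2, hZ⟩ := exists_zQ S
  rcases (hZ _).1 (QuotientGroup.eq.1 h) with h1 | h1
  · exact mul_inv_eq_iff_eq_mul.1 (congrArg vG (inv_mul_eq_one.1 h1))
  · exfalso
    have hzc : zQ ∈ Subgroup.center Q := (hZ zQ).2 (Or.inr rfl)
    have e1 : conjQ b q = q * zQ := by
      have := inv_mul_eq_iff_eq_mul.1 h1
      conv_rhs => rw [this]
      rw [mul_assoc, hz2, mul_one]
    have hzfix : conjQ b zQ = zQ := vG_injective (by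
      show (b : G) * vG zQ * (b : G)⁻¹ = vG zQ
      rw [hzv, Subgroup.mem_centralizer_singleton_iff.1 b.2, mul_inv_cancel_right])
    have hmul : ∀ (h : Subgroup.centralizer ({z} : Set G)) (a c : Q), conjQ h (a * c) = conjQ h a * conjQ h c :=
      fun h a c => Subtype.ext (by simp [conjQ, mul_assoc])
    have hpowc : ∀ n : ℕ, conjQ b (zQ ^ n) = zQ ^ n := by
      intro n
      induction n with
      | zero => exact Subtype.ext (by simp [conjQ])
      | succ n ih => rw [pow_succ, hmul, ih, hzfix]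
    have key : ∀ n : ℕ, conjQ (b ^ n) q = q * zQ ^ n := by
      intro n
      induction n with
      | zero => exact Subtype.ext (by simp [conjQ])
      | succ n ih => rw [pow_succ', conjQ_mul, ih, hmul, e1, hpowc, mul_assoc, ← pow_succ']
    have h5 := key p
    obtain ⟨k, rfl⟩ := hp
    rw [hb, pow_succ zQ, pow_mul, pow_two, hz2, one_pow, one_mul] at h5
    have h6 : q * zQ = q := h5.symm.trans (Subtype.ext (by simp [conjQ]))
    exact hz1 (mul_eq_left.1 h6)

/-- the centraliser of an element of odd prime order modulo it -/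
theorem odd_centralizer (S : Setting z Q e ψ) {x : Q} (hx : IsConj z (vG x)) (hxz : vG x ≠ z)
    {p : ℕ} [Fact p.Prime] (hp2 : p ≠ 2) {b : G} (hbp : orderOf b = p)
    (hbz : b ∈ Subgroup.centralizer ({z} : Set G)) (hbs : b * vG x = vG x * b)
    {γ : Co0} (hbe : phi e ⟨b, hbz⟩ = QuotientGroup.mk γ) (hγ : γ ^ p = 1)
    {X : Type*} [Group X] (f : Subgroup.centralizer ({γ} : Set Co0) →* X) (hfs : Function.Surjective f)
    (hker : ∀ g, f g = 1 ↔ ∃ k : ℕ, (QuotientGroup.mk g.1 : Spor.Co1) = QuotientGroup.mk γ ^ k)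
    (hfaith : ∀ g, (∀ v, Cg (γ • v) v → Cg (g.1 • v) v) → f g = 1)
    (hX2 : ∀ N : Subgroup X, N.Normal → IsPGroup 2 N → N = ⊥)
    {w : ℕ} (hw : 0 < w) (Rv : Fin (2 ^ (2 * w)) → leechLattice) (hRf : ∀ i, Cg (γ • Rv i) (Rv i))
    (hRi : ∀ i j, Cg (Rv i) (Rv j) → i = j) (hRc : ∀ v, Cg (γ • v) v → ∃ i, Cg v (Rv i))
    [((Subgroup.zpowers b).subgroupOf (Subgroup.centralizer (Subgroup.zpowers b : Set G))).Normal] :
    ∃ (zb : ↥(Subgroup.centralizer (Subgroup.zpowers b : Set G)) ⧸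
        (Subgroup.zpowers b).subgroupOf (Subgroup.centralizer (Subgroup.zpowers b : Set G)))
      (R : Subgroup (Subgroup.centralizer ({zb} : Set (↥(Subgroup.centralizer (Subgroup.zpowers b : Set G)) ⧸
        (Subgroup.zpowers b).subgroupOf (Subgroup.centralizer (Subgroup.zpowers b : Set G))))))
      (_ : R.Normal),
      IsExtraspecialCentralizerSetting zb R w ∧
      Nonempty (_ ⧸ R ≃* X) ∧
      Set.ncard {d | d ∈ R ∧ IsConj zb (d : ↥(Subgroup.centralizer (Subgroup.zpowers b : Set G)) ⧸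
        (Subgroup.zpowers b).subgroupOf (Subgroup.centralizer (Subgroup.zpowers b : Set G)))} =
      Set.ncard {u : G | u ∈ qm Q ∧ ∃ g : G, g * b = b * g ∧ g * z * g⁻¹ = u} := by
  classical
  haveI : Fact (Nat.Prime 2) := ⟨Nat.prime_two⟩
  have hp : p.Prime := Fact.out
  have hodd : Odd p := hp.odd_of_ne_two hp2
  obtain ⟨zQ, hzv, hz1, hz2, hZ⟩ := exists_zQ S
  obtain ⟨hzQm, hconj⟩ := map_setting S
  obtain ⟨hex, hQcard, hzc, -, -⟩ := qm_facts S
  have hzne : z ≠ 1 := fun h => hz1 (vG_injective (hzv.trans h))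
  have hzz : z * z = 1 := by rw [← hzv]; exact congrArg vG hz2
  have hbz' : b * z = z * b := Subgroup.mem_centralizer_singleton_iff.1 hbz
  have hbp' : b ^ p = 1 := hbp ▸ pow_orderOf_eq_one b
  have hbC' : (⟨b, hbz⟩ : Subgroup.centralizer ({z} : Set G)) ^ p = 1 := Subtype.ext hbp'
  set B := Subgroup.zpowers b with hB
  set Cb := Subgroup.centralizer (B : Set G) with hCb
  have memCb : ∀ {g : G}, g ∈ Cb ↔ g * b = b * g := fun {g} => mem_centralizer_zpowers
  set T := B.subgroupOf Cb with hT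
  have hcop : ∀ u ∈ B, ∀ n k : ℕ, orderOf u ∣ n → n ∣ 2 ^ k → u = 1 := by
    intro u hu n k h1 h2
    have h3 : orderOf u ∣ p := by
      have := Subgroup.orderOf_dvd_natCard B hu
      rwa [hB, Nat.card_zpowers, hbp] at this
    exact orderOf_eq_one_iff.1 (Nat.eq_one_of_dvd_coprimes
      (((Nat.coprime_primes hp Nat.prime_two).2 hp2).pow_right k) h3 (h1.trans h2))
  have hB2 : ∀ u ∈ B, u * u = 1 → u = 1 := fun u hu h2 =>
    hcop u hu 2 1 (orderOf_dvd_of_pow_eq_one (by rw [pow_two, h2])) (by norm_num)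
  have hQB : ∀ u : G, u ∈ qm Q → u ∈ B → u = 1 := fun u hu hu' =>
    hcop u hu' _ 25 (Subgroup.orderOf_dvd_natCard _ hu) (by rw [hQcard])
  have hmk : ∀ a a' : Cb, (QuotientGroup.mk a : Cb ⧸ T) = QuotientGroup.mk a' ↔
      (a : G)⁻¹ * a' ∈ B := by
    intro a a'
    rw [QuotientGroup.eq, hT, Subgroup.mem_subgroupOf, Subgroup.coe_mul, Subgroup.coe_inv]
  have hzCb : z ∈ Cb := memCb.2 hbz'.symm
  set zb : Cb ⧸ T := QuotientGroup.mk ⟨z, hzCb⟩ with hzb
  set K : Subgroup G := Subgroup.centralizer ({z} : Set G) ⊓ Cb with hK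
  let Φ : K →* Subgroup.centralizer ({zb} : Set (Cb ⧸ T)) := MonoidHom.mk'
    (fun k => ⟨QuotientGroup.mk ⟨k.1, k.2.2⟩, Subgroup.mem_centralizer_singleton_iff.2 (by
      rw [hzb, ← QuotientGroup.mk_mul, ← QuotientGroup.mk_mul]
      exact congrArg _ (Subtype.ext (Subgroup.mem_centralizer_singleton_iff.1 k.2.1)))⟩)
    fun a c => Subtype.ext rfl
  -- an involution in a coset
  have hinv : ∀ a : G, a * a = 1 → ∀ c : G, c * c = 1 → c * b = b * c → c⁻¹ * a ∈ B → a = c := by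
    intro a haa c hcc hcb hm
    obtain ⟨i, hi⟩ := Subgroup.mem_zpowers_iff.1 hm
    have hci : c * b ^ i = b ^ i * c := ((show Commute c b from hcb).zpow_right i).eq
    have hae : a = c * b ^ i := by rw [hi, mul_inv_cancel_left]
    have h1 : b ^ i * b ^ i = 1 := by
      have : c * b ^ i * (c * b ^ i) = 1 := hae ▸ haa
      rwa [mul_assoc, ← mul_assoc (b ^ i) c, ← hci, mul_assoc c, ← mul_assoc, hcc, one_mul] at this
    rw [hae, hB2 _ (Subgroup.zpow_mem _ (Subgroup.mem_zpowers b) i) h1, mul_one]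
  have hΦs : Function.Surjective Φ := by
    rintro ⟨d, hd⟩
    obtain ⟨h, rfl⟩ := QuotientGroup.mk_surjective d
    have h1 := Subgroup.mem_centralizer_singleton_iff.1 hd
    rw [hzb, ← QuotientGroup.mk_mul, ← QuotientGroup.mk_mul, hmk] at h1
    simp only [Subgroup.coe_mul] at h1
    have hhC : (h : G) ∈ Subgroup.centralizer ({z} : Set G) := by
      have e1 := hinv ((h : G)⁻¹ * z * h) (by
        calc (h : G)⁻¹ * z * h * ((h : G)⁻¹ * z * h) = (h : G)⁻¹ * (z * z) * h := by group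
          _ = 1 := by rw [hzz]; group) z hzz hbz'.symm (by
        rwa [show z⁻¹ * ((h : G)⁻¹ * z * h) = ((h : G) * z)⁻¹ * (z * h) by group])
      refine Subgroup.mem_centralizer_singleton_iff.2 ?_
      calc (h : G) * z = (h : G) * ((h : G)⁻¹ * z * h) := by rw [e1]
        _ = z * h := by group
    exact ⟨⟨h, hhC, h.2⟩, Subtype.ext rfl⟩
  have hΦ1 : ∀ k : K, Φ k = 1 ↔ (k : G) ∈ B := by
    intro k
    rw [Subtype.ext_iff]
    show (QuotientGroup.mk (⟨k.1, k.2.2⟩ : Cb) : Cb ⧸ T) = 1 ↔ _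
    rw [QuotientGroup.eq_one_iff, hT, Subgroup.mem_subgroupOf]
  let φK : K →* Spor.Co1 := (phi e).comp (Subgroup.inclusion (inf_le_left : K ≤ _))
  have hbK : b ∈ K := ⟨hbz, memCb.2 rfl⟩
  have hφb : φK ⟨b, hbK⟩ = QuotientGroup.mk γ := hbe
  have hlift : ∀ k : K, ∃ g : Subgroup.centralizer ({γ} : Set Co0), (QuotientGroup.mk g.1 : Spor.Co1) = φK k := by
    intro k
    obtain ⟨g, hg⟩ := QuotientGroup.mk_surjective (φK k)
    refine ⟨⟨g, cent_of_commute hodd hγ ?_⟩, hg⟩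
    rw [hg, ← hφb, ← map_mul, ← map_mul]
    exact congrArg φK (Subtype.ext (memCb.1 k.2.2))
  choose gf hgf using hlift
  have hcongr : ∀ g g' : Subgroup.centralizer ({γ} : Set Co0),
      (QuotientGroup.mk g.1 : Spor.Co1) = QuotientGroup.mk g'.1 → f g = f g' := by
    intro g g' h
    have h1 : f (g⁻¹ * g') = 1 := (hker _).2 ⟨0, by
      rw [Subgroup.coe_mul, Subgroup.coe_inv, QuotientGroup.mk_mul, QuotientGroup.mk_inv, h,
        inv_mul_cancel, pow_zero]⟩
    rwa [map_mul, map_inv, inv_mul_eq_one] at h1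
  let χ : K →* X := MonoidHom.mk' (fun k => f (gf k)) fun k k' => by
    rw [← map_mul]
    refine hcongr _ _ ?_
    rw [hgf, map_mul, Subgroup.coe_mul, QuotientGroup.mk_mul, hgf, hgf]
  have hχ : ∀ (k : K) (g : Subgroup.centralizer ({γ} : Set Co0)),
      (QuotientGroup.mk g.1 : Spor.Co1) = φK k → χ k = f g :=
    fun k g h => hcongr _ _ ((hgf k).trans h.symm)
  let QK : Subgroup K := (qm Q).subgroupOf K
  haveI hQKn : QK.Normal := ⟨fun q hq k => hconj _ hq _ k.2.1⟩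
  have hQK : ∀ k : K, k ∈ QK ↔ φK k = 1 := by
    intro k
    constructor
    · rintro ⟨c, hc, hck⟩
      exact phi_eq_one.2 (by rwa [show Subgroup.inclusion (inf_le_left : K ≤ _) k = c from Subtype.ext hck.symm])
    · intro h
      exact ⟨_, phi_eq_one.1 h, rfl⟩
  have hχker : ∀ k : K, χ k = 1 ↔ ∃ i : ℕ, ∃ q ∈ QK, k = q * (⟨b, hbK⟩ : K) ^ i := by
    intro k
    constructor
    · intro h
      obtain ⟨i, hi⟩ := (hker _).1 h
      refine ⟨i, k * ((⟨b, hbK⟩ : K) ^ i)⁻¹, (hQK _).2 ?_, by group⟩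
      rw [map_mul, map_inv, map_pow, hφb, ← hi, hgf, mul_inv_cancel]
    · rintro ⟨i, q, hq, rfl⟩
      refine (hker _).2 ⟨i, ?_⟩
      rw [hgf, map_mul, map_pow, hφb, (hQK q).1 hq, one_mul]
  have hχs : Function.Surjective χ := by
    intro a
    obtain ⟨g, rfl⟩ := hfs a
    obtain ⟨h, hh, hhb⟩ := exists_norm_lift S hp2 (g := g.1) hbC' hbe (j := 1) (by
      rw [pow_one, ← QuotientGroup.mk_mul, ← QuotientGroup.mk_mul, Subgroup.mem_centralizer_singleton_iff.1 g.2])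
    have hkK : (h : G) ∈ K := ⟨h.2, memCb.2 (mul_inv_eq_iff_eq_mul.1 (by
      have := congrArg (fun u : Subgroup.centralizer ({z} : Set G) => (u : G)) hhb
      simpa only [Subgroup.coe_mul, Subgroup.coe_inv, pow_one] using this))⟩
    exact ⟨⟨h, hkK⟩, hχ _ g hh.symm⟩
  have hbΦ : Φ ⟨b, hbK⟩ = 1 := (hΦ1 _).2 (Subgroup.mem_zpowers b)
  have hχb : χ ⟨b, hbK⟩ = 1 := (hχker _).2 ⟨1, 1, one_mem _, by group⟩
  have hkerΦ : Φ.ker ≤ χ.ker := by
    intro k hk
    obtain ⟨i, hi⟩ := Subgroup.mem_zpowers_iff.1 ((hΦ1 k).1 hk)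
    rw [MonoidHom.mem_ker, show k = (⟨b, hbK⟩ : K) ^ i from Subtype.ext (by
      rw [Subgroup.coe_zpow]; exact hi.symm), map_zpow, hχb, one_zpow]
  let χD : Subgroup.centralizer ({zb} : Set (Cb ⧸ T)) →* X := Φ.liftOfSurjective hΦs ⟨χ, hkerΦ⟩
  have hχD : ∀ k, χD (Φ k) = χ k := fun k => MonoidHom.liftOfRightInverse_comp_apply _ _ _ _ k
  have hχDs : Function.Surjective χD := fun a => by
    obtain ⟨k, hk⟩ := hχs a
    exact ⟨Φ k, (hχD k).trans hk⟩
  set R := QK.map Φ with hR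
  haveI hRn : R.Normal := Subgroup.Normal.map hQKn Φ hΦs
  have hkerD : χD.ker = R := by
    ext d
    obtain ⟨k, rfl⟩ := hΦs d
    rw [MonoidHom.mem_ker, hχD]
    constructor
    · intro h
      obtain ⟨i, q, hq, rfl⟩ := (hχker k).1 h
      exact ⟨q, hq, by rw [map_mul, map_pow, hbΦ, one_pow, mul_one]⟩
    · rintro ⟨q, hq, hqk⟩
      have h2 : Φ (k * q⁻¹) = 1 := by rw [map_mul, map_inv, hqk, mul_inv_cancel]
      have h3 : χ (k * q⁻¹) = 1 := hkerΦ h2
      rw [map_mul, map_inv, (hχker q).2 ⟨0, q, hq, by rw [pow_zero, mul_one]⟩, inv_one, mul_one] at h3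
      exact h3
  -- the part of the large group
  set H := qm Q ⊓ Cb with hH
  let f' : H →* R := MonoidHom.mk'
    (fun u => ⟨Φ ⟨u.1, Subgroup.map_subtype_le _ u.2.1, u.2.2⟩, _, u.2.1, rfl⟩)
    fun a c => Subtype.ext (map_mul Φ ⟨a.1, Subgroup.map_subtype_le _ a.2.1, a.2.2⟩ ⟨c.1, Subgroup.map_subtype_le _ c.2.1, c.2.2⟩)
  have hf : Function.Bijective f' := by
    refine ⟨(injective_iff_map_eq_one f').2 fun u hu => Subtype.ext ?_, ?_⟩
    · exact hQB _ u.2.1 ((hΦ1 _).1 (congrArg Subtype.val hu))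
    · rintro ⟨r, k, hk, rfl⟩
      exact ⟨⟨k.1, hk, k.2.2⟩, Subtype.ext rfl⟩
  let fe : H ≃* R := MulEquiv.ofBijective f' hf
  -- fixed classes
  have hfixq : ∀ v, Cg (γ • v) v → ∃ q : Q, ψ v = QuotientGroup.mk q ∧ vG q ∈ Cb := by
    intro v hv
    obtain ⟨q, hq⟩ := QuotientGroup.mk_surjective (ψ v)
    refine ⟨q, hq.symm, memCb.2 (commute_of_class S hodd hbC' ?_).symm⟩
    have e1 := psi_smul S (g := γ) (h := ⟨b, hbz⟩) hbe.symm hq.symm
    rw [(psi_cg S).2 hv, ← hq] at e1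
    exact e1.symm
  have hclass : ∀ (q : Q) (v : leechLattice), vG q ∈ Cb → ψ v = QuotientGroup.mk q → Cg (γ • v) v := by
    intro q v hq hv
    refine (psi_cg S).1 ?_
    have e1 := psi_smul S (g := γ) (h := ⟨b, hbz⟩) hbe.symm hv
    rwa [show conjQ (⟨b, hbz⟩ : Subgroup.centralizer ({z} : Set G)) q = q from vG_injective (by
      show b * vG q * b⁻¹ = vG q
      rw [← memCb.1 hq, mul_inv_cancel_right]), ← hv] at e1
  have hHcard : Nat.card H = 2 ^ (2 * w + 1) := by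
    let j : Q →* G := (Subgroup.centralizer ({z} : Set G)).subtype.comp Q.subtype
    set Hq := Cb.comap j with hHq
    have hHH : Nat.card Hq = Nat.card H := by
      refine Nat.card_congr (Equiv.ofBijective (fun q : Hq => (⟨j q.1, ⟨_, q.1.2, rfl⟩, q.2⟩ : H)) ⟨?_, ?_⟩)
      · exact fun a c h => Subtype.ext (vG_injective (congrArg (fun u : H => (u : G)) h))
      · rintro ⟨u, ⟨c, hc, rfl⟩, hu⟩
        exact ⟨⟨⟨c, hc⟩, hu⟩, rfl⟩
    have h1 := Cfsg.Agent.H92.MonsterCross.card_map_mul (QuotientGroup.mk' (Subgroup.center Q)) Hq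
    have hcle : Subgroup.center Q ≤ Hq := by
      intro c hc
      rcases (hZ c).1 hc with h | h <;> rw [h]
      · exact one_mem _
      · show j zQ ∈ Cb
        rw [show j zQ = z from hzv]
        exact hzCb
    rw [QuotientGroup.ker_mk', inf_eq_right.2 hcle, cq S] at h1
    have h2 : Nat.card (Hq.map (QuotientGroup.mk' (Subgroup.center Q))) = 2 ^ (2 * w) := by
      refine Eq.trans (Nat.card_congr (Equiv.ofBijective
        (fun i : Fin (2 ^ (2 * w)) => (⟨ψ (Rv i), ?_⟩ : Hq.map (QuotientGroup.mk' (Subgroup.center Q)))) ⟨?_, ?_⟩).symm) ?_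
      · obtain ⟨q, hq, hqC⟩ := hfixq _ (hRf i)
        exact ⟨q, hqC, hq.symm⟩
      · intro i i' h
        exact hRi _ _ ((psi_cg S).1 (congrArg Subtype.val h))
      · rintro ⟨_, q, hq, rfl⟩
        obtain ⟨v, hv⟩ := S.iso.2.1 (QuotientGroup.mk q)
        obtain ⟨i, hi⟩ := hRc v (hclass q v hq hv)
        exact ⟨i, Subtype.ext (((psi_cg S).2 hi).symm.trans hv)⟩
      · simp
    rw [← hHH, ← h1, h2, ← pow_succ]
  have hoddB : Odd (Nat.card B) := by rw [hB, Nat.card_zpowers, hbp]; exact hodd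
  have hext : IsExtraspecial 2 R := by
    refine Cfsg.Agent.H92.isExtraspecial_of_mulEquiv fe ?_
    refine Cfsg.Agent.H92.fixed_isExtraspecial hex hzc hzne hoddB (fun a ha q hq => hconj q hq a ?_) ?_
    · exact (Subgroup.zpowers_le.2 hbz) ha
    · rw [← hCb, ← hH, hHcard]
      calc 2 < 2 ^ 2 := by norm_num
        _ ≤ 2 ^ (2 * w + 1) := Nat.pow_le_pow_right (by norm_num) (by omega)
  have hRcard : Nat.card R = 2 ^ (2 * w + 1) := by rw [← Nat.card_congr fe.toEquiv, hHcard]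
  have hRp : IsPGroup 2 R := IsPGroup.of_card hRcard
  have hcore : pCore 2 (Subgroup.centralizer ({zb} : Set (Cb ⧸ T))) = R := by
    refine le_antisymm ?_ (Cfsg.Agent.Cores.le_pCore hRp)
    have hn : ((pCore 2 (Subgroup.centralizer ({zb} : Set (Cb ⧸ T)))).map χD).Normal :=
      Subgroup.Normal.map inferInstance χD hχDs
    have h := hX2 _ hn (Cfsg.Agent.Cores.pCore_isPGroup.map χD)
    rw [← hkerD]
    intro d hd
    refine MonoidHom.mem_ker.2 ?_
    have h' : χD d ∈ (pCore 2 (Subgroup.centralizer ({zb} : Set (Cb ⧸ T)))).map χD := ⟨d, hd, rfl⟩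
    rwa [h, Subgroup.mem_bot] at h'
  have hcent : Subgroup.centralizer (R : Set (Subgroup.centralizer ({zb} : Set (Cb ⧸ T)))) ≤ R := by
    intro d hd
    obtain ⟨k, rfl⟩ := hΦs d
    rw [← hkerD, MonoidHom.mem_ker, hχD, hχ k (gf k) (hgf k)]
    refine hfaith _ fun v hv => (psi_cg S).1 ?_
    obtain ⟨q, hq, hqC⟩ := hfixq v hv
    have hqK : vG q ∈ K := ⟨(q : Subgroup.centralizer ({z} : Set G)).2, hqC⟩
    have e1 := psi_smul S (g := (gf k).1) (h := Subgroup.inclusion (inf_le_left : K ≤ _) k) (hgf k) hq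
    rw [e1, hq]
    congr 1
    refine vG_injective ?_
    show (k : G) * vG q * (k : G)⁻¹ = vG q
    have hm : (⟨vG q, hqK⟩ : K) ∈ QK := ⟨_, q.2, rfl⟩
    have hcomm := Subgroup.mem_centralizer_iff.1 hd _ ⟨_, hm, rfl⟩
    rw [← map_mul, ← map_mul] at hcomm
    have h3 : Φ (k * ⟨vG q, hqK⟩ * k⁻¹ * ⟨vG q, hqK⟩⁻¹) = 1 := by
      rw [map_mul, map_mul, map_inv, map_inv, ← hcomm, map_mul, mul_inv_cancel_right, mul_inv_cancel]
    have h4 : k * ⟨vG q, hqK⟩ * k⁻¹ * ⟨vG q, hqK⟩⁻¹ ∈ QK :=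
      mul_mem (hQKn.conj_mem _ hm k) (inv_mem hm)
    have h5 := hQB _ h4 ((hΦ1 _).1 h3)
    exact mul_inv_eq_one.1 h5
  have hFit : generalizedFittingSubgroup (Subgroup.centralizer ({zb} : Set (Cb ⧸ T))) = R := by
    rw [← hcore]
    refine (Cfsg.Agent.Components.genFitting_eq_pCore_iff (p := 2)).2 ?_
    rw [hcore]
    exact hcent
  have hzbne : zb ≠ 1 := fun h => by
    rw [hzb, QuotientGroup.eq_one_iff, hT, Subgroup.mem_subgroupOf] at h
    exact hzne (hB2 z h hzz)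
  obtain ⟨y, -, hyb, hyz, -, -, -⟩ := exists_pair_movers S hx hxz hp2 hbp' hbz' hbs
  have hyC : y ∈ Cb := memCb.2 hyb
  have hzxQ : z * vG x ∈ qm Q := mul_mem hzQm (mem_qm.2 ⟨x, rfl⟩)
  have hzxC : z * vG x ∈ Cb := mul_mem hzCb (memCb.2 hbs.symm)
  have hzxK : z * vG x ∈ K := ⟨Subgroup.map_subtype_le _ hzxQ, hzxC⟩
  refine ⟨zb, R, hRn, ⟨orderOf_eq_prime ?_ hzbne, hFit, hext, hRcard, QuotientGroup.mk ⟨y, hyC⟩, ?_, ?_⟩,
    ⟨(QuotientGroup.quotientMulEquivOfEq hkerD.symm).trans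
      (QuotientGroup.quotientKerEquivOfSurjective χD hχDs)⟩, ?_⟩
  · rw [hzb, pow_two, ← QuotientGroup.mk_mul, QuotientGroup.eq_one_iff, hT, Subgroup.mem_subgroupOf]
    rw [show ((⟨z, hzCb⟩ * ⟨z, hzCb⟩ : Cb) : G) = 1 from hzz]
    exact one_mem B
  · have e1 : (QuotientGroup.mk ⟨y, hyC⟩ : Cb ⧸ T) * zb * (QuotientGroup.mk ⟨y, hyC⟩ : Cb ⧸ T)⁻¹ =
        QuotientGroup.mk ⟨z * vG x, hzxC⟩ := by
      rw [hzb, ← QuotientGroup.mk_inv, ← QuotientGroup.mk_mul, ← QuotientGroup.mk_mul]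
      exact congrArg _ (Subtype.ext hyz)
    exact ⟨e1 ▸ (Φ ⟨z * vG x, hzxK⟩).2, ⟨z * vG x, hzxK⟩, hzxQ, Subtype.ext e1.symm⟩
  · intro h
    rw [hzb, ← QuotientGroup.mk_inv, ← QuotientGroup.mk_mul, ← QuotientGroup.mk_mul, hmk] at h
    simp only [Subgroup.coe_mul, Subgroup.coe_inv, hyz] at h
    have h1 := hQB _ (mul_mem (inv_mem hzxQ) hzQm) h
    rw [inv_mul_eq_one, mul_eq_left] at h1
    obtain ⟨g, hg⟩ := isConj_iff.1 hx
    rw [h1, conj_eq_one_iff] at hg
    exact hzne hg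
  · -- the count
    have hKmem : ∀ u : G, (u ∈ qm Q ∧ ∃ g : G, g * b = b * g ∧ g * z * g⁻¹ = u) → u ∈ K := by
      rintro u ⟨hu, g, hg, rfl⟩
      exact Subgroup.mem_inf.2 ⟨Subgroup.map_subtype_le _ hu, mul_mem (mul_mem (memCb.2 hg) hzCb) (inv_mem (memCb.2 hg))⟩
    refine (Set.ncard_congr (fun u hu => Φ ⟨u, hKmem u hu⟩) ?_ ?_ ?_).symm
    · rintro u ⟨hu, g, hg, hgu⟩
      refine ⟨⟨⟨u, hKmem u ⟨hu, g, hg, hgu⟩⟩, hu, rfl⟩, isConj_iff.2 ⟨QuotientGroup.mk ⟨g, memCb.2 hg⟩, ?_⟩⟩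
      show _ = (QuotientGroup.mk (⟨u, _⟩ : Cb) : Cb ⧸ T)
      rw [hzb, ← QuotientGroup.mk_inv, ← QuotientGroup.mk_mul, ← QuotientGroup.mk_mul]
      exact congrArg _ (Subtype.ext hgu)
    · intro u u' hu hu' h
      have h2 : Φ ((⟨u, hKmem u hu⟩ : K)⁻¹ * ⟨u', hKmem u' hu'⟩) = 1 := by
        rw [map_mul, map_inv, h, inv_mul_cancel]
      exact inv_mul_eq_one.1 (hQB _ (mul_mem (inv_mem hu.1) hu'.1) ((hΦ1 _).1 h2))
    · rintro d ⟨⟨k, hk, rfl⟩, hd⟩
      obtain ⟨a, ha⟩ := isConj_iff.1 hd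
      obtain ⟨g, rfl⟩ := QuotientGroup.mk_surjective a
      have ha' : (QuotientGroup.mk (g * (⟨z, hzCb⟩ : Cb) * g⁻¹) : Cb ⧸ T) =
          QuotientGroup.mk (⟨k.1, k.2.2⟩ : Cb) := by
        rw [QuotientGroup.mk_mul, QuotientGroup.mk_mul, QuotientGroup.mk_inv]; exact ha
      have hm := (hmk _ _).1 ha'
      simp only [Subgroup.coe_mul, Subgroup.coe_inv] at hm
      have hgz : (g : G) * z * (g : G)⁻¹ * ((g : G) * z * (g : G)⁻¹) = 1 := by
        calc (g : G) * z * (g : G)⁻¹ * ((g : G) * z * (g : G)⁻¹) = (g : G) * (z * z) * (g : G)⁻¹ := by group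
          _ = 1 := by rw [hzz]; group
      -- the square of the element of the large group is trivial
      have hkk : (k : G) * k = 1 := by
        obtain ⟨i, hi⟩ := Subgroup.mem_zpowers_iff.1 hm
        have hke : (k : G) = (g : G) * z * (g : G)⁻¹ * b ^ i := by rw [hi, mul_inv_cancel_left]
        have hcg : b ^ i * ((g : G) * z * (g : G)⁻¹) = (g : G) * z * (g : G)⁻¹ * b ^ i :=
          ((show Commute ((g : G) * z * (g : G)⁻¹) b from
            memCb.1 (mul_mem (mul_mem g.2 hzCb) (inv_mem g.2))).zpow_right i).eq.symm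
        refine hQB _ (mul_mem hk hk) ?_
        rw [hke, mul_assoc, ← mul_assoc (b ^ i), hcg, mul_assoc ((g : G) * z * (g : G)⁻¹), ← mul_assoc, hgz,
          one_mul]
        exact mul_mem (Subgroup.zpow_mem _ (Subgroup.mem_zpowers b) i) (Subgroup.zpow_mem _ (Subgroup.mem_zpowers b) i)
      have he := hinv (k : G) hkk _ hgz (memCb.1 (mul_mem (mul_mem g.2 hzCb) (inv_mem g.2))) hm
      exact ⟨k, ⟨hk, g, memCb.1 g.2, he.symm⟩, rfl⟩

end Cfsg.Agent.H74.Monster
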