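import Cfsg.Agent.H65.MonsterFive.Group
import Cfsg.Agent.H92.MonsterCross
import Cfsg.Agent.H92.Pair
import Cfsg.Agent.H92.Extra
import Cfsg.Agent.H92.QuotOdd

/-!
An element of odd prime order centralising two commuting conjugates of the central involution:
coprime action gives elements of its centraliser moving one conjugate to another, and lifts of
elements of Co0 normalising it.
-/

set_option autoImplicit false

namespace Cfsg.Agent.H74.Monster

open Cfsg Cfsg.Agent.Golay Cfsg.Agent.H92.LeechTwo Cfsg.Agent.H92.MonsterQ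
open Cfsg.Agent.H65.MonsterFive (phi phi_eq_one)

section Generic

variable {G : Type*} [Group G] [Finite G] {p : ℕ} [hp : Fact p.Prime]

/-- two elements of order dividing a prime in one coset of a normalised group of order prime to it -/
theorem coset_prime {N : Subgroup G} {b c : G} (hN : ¬ p ∣ Nat.card N)
    (hn : ∀ n ∈ N, b * n * b⁻¹ ∈ N) (hb : b ^ p = 1) (hc : c ^ p = 1) (hcb : c * b⁻¹ ∈ N) :
    ∃ n ∈ N, n * c * n⁻¹ = b := by
  classical
  haveI : Fintype N := Fintype.ofFinite _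
  have hmem : ∀ n : N, b * n.1 * c⁻¹ ∈ N := fun n => by
    rw [show b * n.1 * c⁻¹ = b * n.1 * b⁻¹ * (c * b⁻¹)⁻¹ by group]
    exact mul_mem (hn _ n.2) (inv_mem hcb)
  set f : N → N := fun n => ⟨b * n.1 * c⁻¹, hmem n⟩
  have hf : Function.Injective f := fun m n h =>
    Subtype.ext (mul_left_cancel (mul_right_cancel (congrArg Subtype.val h)))
  set σ : Equiv.Perm N := Equiv.ofBijective f ⟨hf, Finite.surjective_of_injective hf⟩
  have hpow : ∀ (k : ℕ) (n : N), ((σ ^ k) n : G) = b ^ k * n * (c ^ k)⁻¹ := by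
    intro k
    induction k with
    | zero => intro n; simp
    | succ k ih =>
      intro n
      rw [pow_succ', Equiv.Perm.mul_apply]
      show b * ((σ ^ k) n : G) * c⁻¹ = _
      rw [ih, pow_succ' b k, pow_succ c k, mul_inv_rev]
      group
  obtain ⟨n, hfix⟩ := Equiv.Perm.exists_fixed_point_of_prime (p := p) (n := 1)
    (by rwa [← Nat.card_eq_fintype_card]) (σ := σ) (Equiv.ext fun n => Subtype.ext (by
      rw [pow_one, hpow, hb, hc]; simp))
  have h1 : b * n.1 * c⁻¹ = n.1 := congrArg Subtype.val hfix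
  refine ⟨n.1, n.2, ?_⟩
  calc n.1 * c * n.1⁻¹ = b * n.1 * c⁻¹ * c * n.1⁻¹ := by rw [h1]
    _ = b := by group

/-- an element of a group normalised by `b` moving `a` to `a'` can be taken in the centraliser of `b` -/
theorem exists_fixed_mover {R : Subgroup G} {b a a' : G} (hR : ¬ p ∣ Nat.card R) (hb : b ^ p = 1)
    (hbR : ∀ r ∈ R, b * r * b⁻¹ ∈ R) (hba : b * a = a * b) (hba' : b * a' = a' * b)
    {y0 : G} (hy0 : y0 ∈ R) (hya : y0 * a * y0⁻¹ = a') :
    ∃ y ∈ R, y * b = b * y ∧ y * a * y⁻¹ = a' := by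
  have memC : ∀ u : G, u ∈ Subgroup.centralizer ({a} : Set G) ↔ u * a = a * u := fun u =>
    Subgroup.mem_centralizer_singleton_iff
  set N := R ⊓ Subgroup.centralizer ({a} : Set G)
  have hbC : b ∈ Subgroup.centralizer ({a} : Set G) := (memC b).2 hba
  obtain ⟨n, ⟨hnR, hnC⟩, hn⟩ := coset_prime (N := N) (b := b) (c := y0⁻¹ * b * y0)
    (fun h => hR (h.trans (Subgroup.card_dvd_of_le inf_le_left)))
    (fun n hn => Subgroup.mem_inf.2 ⟨hbR n (Subgroup.mem_inf.1 hn).1,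
      mul_mem (mul_mem hbC (Subgroup.mem_inf.1 hn).2) (inv_mem hbC)⟩) hb
    (by rw [show y0⁻¹ * b * y0 = y0⁻¹ * b * y0⁻¹⁻¹ by rw [inv_inv], conj_pow, hb]; group)
    (Subgroup.mem_inf.2 ⟨by
      rw [show y0⁻¹ * b * y0 * b⁻¹ = y0⁻¹ * (b * y0 * b⁻¹) by group]
      exact mul_mem (inv_mem hy0) (hbR _ hy0),
    mul_mem ((memC _).2 (by
      calc y0⁻¹ * b * y0 * a = y0⁻¹ * (b * (y0 * a * y0⁻¹)) * y0 := by group
        _ = y0⁻¹ * (a' * b) * y0 := by rw [hya, hba']
        _ = y0⁻¹ * ((y0 * a * y0⁻¹) * b) * y0 := by rw [hya]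
        _ = a * (y0⁻¹ * b * y0) := by group)) (inv_mem hbC)⟩)
  refine ⟨y0 * n⁻¹, mul_mem hy0 (inv_mem hnR), ?_, ?_⟩
  · calc y0 * n⁻¹ * b = y0 * n⁻¹ * (n * (y0⁻¹ * b * y0) * n⁻¹) := by rw [hn]
      _ = b * (y0 * n⁻¹) := by group
  · calc y0 * n⁻¹ * a * (y0 * n⁻¹)⁻¹ = y0 * (n⁻¹ * (a * n)) * y0⁻¹ := by group
      _ = y0 * (n⁻¹ * (n * a)) * y0⁻¹ := by rw [(memC n).1 hnC]
      _ = a' := by rw [inv_mul_cancel_left, hya]

omit [Finite G] hp in
/-- an element commuting with a power of an element of prime order -/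
theorem commute_of_pow {b u : G} {j k : ℕ} (hjk : (b ^ j) ^ k = b) (h : u * b ^ j = b ^ j * u) :
    u * b = b * u := by
  rw [← hjk]
  exact (show Commute u (b ^ j) from h).pow_right k

end Generic

variable {G : Type*} [Group G] [Finite G] {z : G}
  {Q : Subgroup (Subgroup.centralizer ({z} : Set G))} [Q.Normal]
  {e : (Subgroup.centralizer ({z} : Set G)) ⧸ Q ≃* Spor.Co1}
  {ψ : leechLattice → Q ⧸ Subgroup.center Q}

/-- the normal subgroup inside the whole group -/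
abbrev qm (Q : Subgroup (Subgroup.centralizer ({z} : Set G))) : Subgroup G :=
  Q.map (Subgroup.centralizer ({z} : Set G)).subtype

omit [Finite G] [Q.Normal] in
theorem mem_qm {u : G} : u ∈ qm Q ↔ ∃ q : Q, vG q = u :=
  ⟨fun ⟨c, hc, h⟩ => ⟨⟨c, hc⟩, h⟩, fun ⟨q, h⟩ => ⟨q.1, q.2, h⟩⟩

theorem qm_facts (S : Setting z Q e ψ) :
    IsExtraspecial 2 (qm Q) ∧ Nat.card (qm Q) = 2 ^ 25 ∧ z ∈ (Subgroup.center (qm Q)).map (qm Q).subtype ∧
      Subgroup.centralizer (qm Q : Set G) = (Subgroup.center (qm Q)).map (qm Q).subtype ∧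
      Subgroup.centralizer (((Subgroup.center (qm Q)).map (qm Q).subtype : Subgroup G) : Set G) ≤
        Subgroup.normalizer (qm Q : Set G) := by
  obtain ⟨h1, h2, -, h4⟩ := Cfsg.Agent.H92.centralizer_setting
    (Q := qm Q) (Subgroup.map_subtype_le _) (by rw [S.setting.2.1])
  refine ⟨Cfsg.Agent.H92.isExtraspecial_of_mulEquiv
    (Q.equivMapOfInjective _ Subtype.val_injective) S.setting.2.2.1, ?_, h1, h2, h4⟩
  rw [Subgroup.card_map_of_injective Subtype.val_injective, S.setting.2.2.2.1]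

theorem not_dvd_two_pow {p : ℕ} (hp : p.Prime) (hp2 : p ≠ 2) {n k : ℕ} (h : n ∣ 2 ^ k) : ¬ p ∣ n :=
  fun hd => hp2 ((Nat.prime_dvd_prime_iff_eq hp Nat.prime_two).1 (hp.dvd_of_dvd_pow (hd.trans h)))

/-- moving the central involution and its conjugate inside the centraliser of `b` -/
theorem exists_pair_movers (S : Setting z Q e ψ) {x : Q} (hx : IsConj z (vG x)) (hxz : vG x ≠ z)
    {p : ℕ} [Fact p.Prime] (hp2 : p ≠ 2) {b : G} (hb : b ^ p = 1) (hbz : b * z = z * b)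
    (hbx : b * vG x = vG x * b) :
    ∃ y u : G, y * b = b * y ∧ y * z * y⁻¹ = z * vG x ∧
      u ∈ qm Q ∧ u * b = b * u ∧ u * vG x * u⁻¹ = z * vG x := by
  obtain ⟨hex, hcard, hzc, hcen, hnorm⟩ := qm_facts S
  obtain ⟨zQ, hzv, hz1, -, -⟩ := exists_zQ S
  obtain ⟨g, hg⟩ := isConj_iff.1 hx
  have hzne : z ≠ 1 := fun h => hz1 (vG_injective (hzv.trans h))
  have hP : Cfsg.Agent.H92.PairSetting (qm Q) z g := ⟨hex, hcen, hnorm, hzc, hzne,
    hg ▸ mem_qm.2 ⟨x, rfl⟩, hg ▸ hxz, by rw [hcard]; norm_num⟩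
  have hbzs : b * (z * vG x) = z * vG x * b := by
    rw [← mul_assoc, hbz, mul_assoc, hbx, ← mul_assoc]
  have hpQ : ¬ p ∣ Nat.card (qm Q) := not_dvd_two_pow (Fact.out : p.Prime) hp2 (by rw [hcard])
  obtain ⟨y0, hy0, hy0z⟩ := hP.exists_y
  obtain ⟨u0, hu0, hu0s⟩ := hP.exists_x
  rw [hg] at hy0z hu0s
  obtain ⟨y, -, hyb, hyz⟩ := exists_fixed_mover (p := p)
    (R := (qm Q).map (MulAut.conj g).toMonoidHom)
    (by rwa [Subgroup.card_map_of_injective (MulAut.conj g).injective]) hb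
    (fun r hr => hP.R_norm (by rw [hg]; exact hbx) hr) hbz hbzs hy0 hy0z
  obtain ⟨u, hu, hub, hus⟩ := exists_fixed_mover (p := p) hpQ hb
    (fun r hr => (map_setting S).2 r hr b (Subgroup.mem_centralizer_singleton_iff.2 hbz)) hbx hbzs hu0 hu0s
  exact ⟨y, u, hyb, hyz, hu, hub, hus⟩

/-- lifts of elements of Co0 normalising the group generated by `b` -/
theorem exists_norm_lift (S : Setting z Q e ψ) {p : ℕ} [Fact p.Prime] (hp2 : p ≠ 2) {γ g : Co0}
    {b : Subgroup.centralizer ({z} : Set G)} (hb : b ^ p = 1) (hbe : phi e b = QuotientGroup.mk γ)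
    {j : ℕ} (hg : (QuotientGroup.mk g : Spor.Co1) * QuotientGroup.mk γ =
      (QuotientGroup.mk γ : Spor.Co1) ^ j * QuotientGroup.mk g) :
    ∃ h : Subgroup.centralizer ({z} : Set G), phi e h = QuotientGroup.mk g ∧ h * b * h⁻¹ = b ^ j := by
  obtain ⟨h0, hh0⟩ := exists_lift S g
  have hh0' : phi e h0 = QuotientGroup.mk g := hh0.symm
  have hQ : ¬ p ∣ Nat.card Q := not_dvd_two_pow (Fact.out : p.Prime) hp2 (by rw [S.setting.2.2.2.1])
  have hbj : (b ^ j) ^ p = 1 := by rw [← pow_mul, mul_comm, pow_mul, hb, one_pow]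
  obtain ⟨n, hn, hnc⟩ := coset_prime (p := p) (N := Q) (b := b ^ j) (c := h0 * b * h0⁻¹) hQ
    (fun n hn => (inferInstance : Q.Normal).conj_mem n hn _) hbj
    (by rw [conj_pow, hb, mul_one, mul_inv_cancel])
    (phi_eq_one.1 (by
      rw [map_mul, map_mul, map_mul, map_inv, map_inv, map_pow, hbe, hh0', hg]
      group))
  refine ⟨n * h0, by rw [map_mul, phi_eq_one.2 hn, one_mul, hh0'], ?_⟩
  rw [← hnc]; group

end Cfsg.Agent.H74.Monster
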