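import Cfsg.Agent.H74.Monster.SevenDefs

/-!
Kernel checks of the tables for the centraliser of an element of order seven.
-/

set_option autoImplicit false

namespace Cfsg.Agent.H74.Monster.SevenCent

open Cfsg Cfsg.Agent.Golay Cfsg.Agent.H92.LeechTwo Cfsg.Agent.H92.LeechOrbit
open Cfsg.Agent.H74.Monster.SevenData
open Cfsg.Agent.H41.CoSec (eqOK eq_of_eqOK run)

theorem tables_ok : inM24 sigT = true ∧ inM24 sigI = true ∧ inM24 sigSq = true ∧ inM24 tauT = true := by
  decide +kernel

theorem cent_ok : conjListOK sigT sigT 7 testList7 repList centList = true := by decide +kernel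

theorem noinv_ok : conjListOK sigT sigI 7 testList7 repList [] = true := by decide +kernel

theorem pow_ok : ∀ k : Fin 7, inM24 (powList.getD k.1 0) = true ∧
    ∀ i : Fin 24, app (powList.getD k.1 0) i.1 = iterTbl sigT k.1 i.1 := by decide +kernel

theorem sig_order : ((List.range 24).all fun i => iterTbl sigT 7 i == i) = true ∧
    ((List.range 24).all fun i => app sigT i == i) = false ∧
    ((List.range 24).all fun i => app sigI (app sigT i) == i) = true ∧
    ((List.range 24).all fun i => app sigSq i == app sigT (app sigT i)) = true ∧
    tblEq (tblMul tauT sigT) (tblMul sigSq tauT) = true := by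
  decide +kernel

theorem inv_tables : ∀ b : Fin 42, inM24 (centList.getD b.1 0) = true ∧ validT (centInv.getD b.1 0) = true ∧
    ∀ i : Fin 24, app (centList.getD b.1 0) (app (centInv.getD b.1 0) i.1) = i.1 := by decide +kernel

theorem code_fixed : (∀ a : Fin 8, inCode (fixCode.getD a.1 0) = true ∧
      tblImg sigT (fixCode.getD a.1 0) = fixCode.getD a.1 0) ∧
    (codeList.all fun m => !(tblImg sigT m == m) || fixCode.contains m) = true ∧
    fixCode.length = 8 ∧ centList.length = 42 := by decide +kernel

end Cfsg.Agent.H74.Monster.SevenCent
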