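import Cfsg.Agent.H74.Monster.SevenDefs

/-!
Kernel checks of the tables for the centraliser of an element of order seven.
-/

set_option autoImplicit false

namespace Cfsg.Agent.H74.Monster.SevenCent

open Cfsg Cfsg.Agent.Golay Cfsg.Agent.H92.LeechTwo Cfsg.Agent.H92.LeechOrbit
open Cfsg.Agent.H74.Monster.SevenData
open Cfsg.Agent.H41.CoSec (eqOK eq_of_eqOK run)

theorem rows_ok : ∀ i : Fin 64, inLeech (rowF i.1) = true := by decide +kernel

theorem row_fixed_fact : ∀ i : Fin 64, ∀ j : Fin 24,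
    rowF i.1 (pt (app sigT j.1)) = rowF i.1 (pt j.1) := by decide +kernel

theorem row_dist_fact : ∀ i j : Fin 64, dblB (fun p => rowF i.1 p - rowF j.1 p) = true → i = j := by
  decide +kernel

theorem row_nrm_fact : (∀ i : Fin 64, sqNorm (rowF i.1) = nrmList.getD i.1 0) ∧
    (∀ i : Fin 64, nrmList.getD i.1 0 ≤ 64) ∧
    (∀ i : Fin 64, nrmList.getD i.1 0 = 64 ↔ 1 ≤ i.1 ∧ i.1 ≤ 14) := by decide +kernel

theorem axis_fact : (∀ j : Fin 24, rowF 1 (pt j.1) = if j.1 = 23 then 8 else 0) ∧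
    (∀ p, rowF 0 p = 0) ∧
    ∀ p, dec axA p + dec axB p = rowF 1 p := by decide +kernel

end Cfsg.Agent.H74.Monster.SevenCent
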