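import Cfsg.Agent.H74.Monster.SevenDefs

/-!
Kernel checks of the tables for the centraliser of an element of order seven.
-/

set_option autoImplicit false

namespace Cfsg.Agent.H74.Monster.SevenCent

open Cfsg Cfsg.Agent.Golay Cfsg.Agent.H92.LeechTwo Cfsg.Agent.H92.LeechOrbit
open Cfsg.Agent.H74.Monster.SevenData
open Cfsg.Agent.H41.CoSec (eqOK eq_of_eqOK run)

theorem word_facts : ∀ i : Fin 14, (wordList.getD i.1 []).all atomOK = true ∧
    eqOK (gW ++ wordList.getD i.1 []) (wordList.getD i.1 [] ++ (if i.1 < 7 then gW else gI)) = true ∧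
    chk (wordList.getD i.1 []) axA (run (wordList.getD i.1 []) axA) = true ∧
    chk (wordList.getD i.1 []) axB (run (wordList.getD i.1 []) axB) = true ∧
    dblB (fun p => dec (run (wordList.getD i.1 []) axA) p + dec (run (wordList.getD i.1 []) axB) p
      - rowF (i.1 + 1) p) = true := by
  decide +kernel

end Cfsg.Agent.H74.Monster.SevenCent
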