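import Cfsg.Agent.H74.Monster.SevenDefs

/-!
Kernel checks of the tables for the centraliser of an element of order seven.
-/

set_option autoImplicit false

namespace Cfsg.Agent.H74.Monster.SevenCent

open Cfsg Cfsg.Agent.Golay Cfsg.Agent.H92.LeechTwo Cfsg.Agent.H92.LeechOrbit
open Cfsg.Agent.H74.Monster.SevenData
open Cfsg.Agent.H41.CoSec (eqOK eq_of_eqOK run)

theorem ker_check : ∀ a : Fin 8, ∀ b : Fin 42,
    ([1, 2, 4].all fun k => dblB (fun p => monoF (fixCode.getD a.1 0) (centInv.getD b.1 0) (rowF k) p - rowF k p)) = true →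
      (fixCode.getD a.1 0 = 0 ∨ fixCode.getD a.1 0 = fullMask) ∧
        ∃ k : Fin 7, tblEq (centList.getD b.1 0) (powList.getD k.1 0) = true := by decide +kernel

theorem label_one_two_four : (lab (Pi.single 0 1)).1 = 1 ∧ (lab (Pi.single 1 1)).1 = 2 ∧
    (lab (Pi.single 2 1)).1 = 4 := by decide +kernel

/-- witnesses for the stabiliser of the first axis class: index of the code word times 42 plus index of the permutation -/
def stabWit : List ℕ :=
  [0, 0, 0, 0, 0, 0, 0, 0, 0, 0, 0, 0, 0, 0, 0, 0, 0, 0, 0, 0, 0, 42, 14, 56, 0, 0, 0, 0, 84, 126, 140, 98, 0, 0, 133, 49, 0, 0, 154, 70, 0, 0, 91, 7, 0, 0, 28, 112, 0, 0, 105, 63, 119, 77, 0, 0, 0, 0, 147, 21, 35, 161, 0, 0]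

theorem stab_wit : ∀ i j : Fin 8, 2 ≤ i.1 → 2 ≤ j.1 → j ≠ i → j.1 ≠ i.1 ^^^ 1 →
    stabWit.getD (8 * i.1 + j.1) 0 / 42 < 8 ∧
    ([(1, 1), (2, i.1), (4, j.1)].all fun q => dblB (fun p => monoF (fixCode.getD (stabWit.getD (8 * i.1 + j.1) 0 / 42) 0)
      (centInv.getD (stabWit.getD (8 * i.1 + j.1) 0 % 42) 0) (rowF q.1) p - rowF q.2 p)) = true := by
  decide +kernel

end Cfsg.Agent.H74.Monster.SevenCent
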