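import Cfsg.Agent.H74.Monster.SevenDefs

/-!
Kernel checks of the tables for the centraliser of an element of order seven.
-/

set_option autoImplicit false

namespace Cfsg.Agent.H74.Monster.SevenCent

open Cfsg Cfsg.Agent.Golay Cfsg.Agent.H92.LeechTwo Cfsg.Agent.H92.LeechOrbit
open Cfsg.Agent.H74.Monster.SevenData
open Cfsg.Agent.H41.CoSec (eqOK eq_of_eqOK run)

theorem lab_facts : (∀ x y : V3, lab x = lab y → x = y) ∧
    (∀ x y : V3, dblB (fun p => rowF (lab x).1 p + rowF (lab y).1 p - rowF (lab (x + y)).1 p) = true) ∧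
    (∀ j : Fin 7, ∃ x : V3, (lab x).1 = j.1 + 1) ∧
    (∀ x : V3, x = 0 ∨ (1 ≤ (lab x).1 ∧ (lab x).1 ≤ 7)) ∧
    (lab (Pi.single 0 1)).1 = 1 ∧ (lab 0).1 = 0 := by decide +kernel

theorem single_facts : (Pi.single 0 1 : V3) ≠ 0 ∧ (Pi.single 1 1 : V3) ≠ 0 ∧ (Pi.single 2 1 : V3) ≠ 0 ∧
    (Pi.single 1 1 : V3) ≠ Pi.single 0 1 ∧ (Pi.single 2 1 : V3) ≠ Pi.single 0 1 ∧
    (Pi.single 2 1 : V3) ≠ Pi.single 1 1 ∧ (Pi.single 2 1 : V3) ≠ Pi.single 0 1 + Pi.single 1 1 := by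
  decide +kernel

theorem lab_small : (∀ x : V3, (lab x).1 < 8) ∧ (∀ x : V3, lab x = 0 → x = 0) ∧
    (∀ x : V3, lab x = 1 → x = Pi.single 0 1) ∧
    (∀ x : V3, (lab (Pi.single 0 1 + x)).1 = (lab x).1 ^^^ 1) := by decide +kernel

end Cfsg.Agent.H74.Monster.SevenCent
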