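import Cfsg.Agent.H41.CoSec.Basic
import Cfsg.Agent.H74.Monster.FixLattice
import Cfsg.Agent.H74.Monster.Move
import Cfsg.Agent.H74.Monster.SevenChecksA
import Cfsg.Agent.H74.Monster.SevenChecksB
import Cfsg.Agent.H74.Monster.SevenChecksC
import Cfsg.Agent.H74.Monster.SevenChecksD
import Cfsg.Agent.H74.Monster.SevenChecksE

/-!
The centraliser in Co0 of a permutation element of order seven modulo the centre and that element
is the linear group of dimension three over two elements.
-/

set_option autoImplicit false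

namespace Cfsg.Agent.H74.Monster.SevenCent

open Cfsg Cfsg.Agent.Golay Cfsg.Agent.H92.LeechTwo Cfsg.Agent.H92.LeechOrbit
open Cfsg.Agent.H74.Monster.SevenData
open Cfsg.Agent.H41.CoSec (eqOK eq_of_eqOK run)
open scoped Matrix

/-- a row as a lattice vector -/
def row (i : Fin 64) : leechLattice := ⟨rowF i.1, mem_of_inLeech (rows_ok i)⟩

/-- the element of order seven -/
noncomputable def gam : Co0 := tblPerm sigT

theorem orderOf_gam : orderOf gam = 7 := by
  rw [gam, tblPerm_eq tables_ok.1, orderOf_injective _ Cfsg.Agent.H92.LeechTwo.permHom_injective, ← Subgroup.orderOf_coe]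
  exact Cfsg.Agent.H44.orderOf_mkPerm (by norm_num) (validT_of_inM24 tables_ok.1) sig_order.1 sig_order.2.1

theorem gam_pow : gam ^ 7 = 1 := by rw [← orderOf_gam]; exact pow_orderOf_eq_one gam

theorem mkPerm_ext {A : ℕ} (hA : validT A = true) {σ : Equiv.Perm GolayPt}
    (h : ∀ i : Fin 24, app A i.1 = idx (σ (pt i.1))) : mkPerm A = σ :=
  (validT_of_pointwise σ fun i hi => h ⟨i, hi⟩).2

theorem gamI_eq : tblPerm sigI = gam⁻¹ := by
  refine eq_inv_of_mul_eq_one_left ?_
  have h := sig_order.2.2.1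
  simp only [List.all_eq_true, List.mem_range, beq_iff_eq] at h
  rw [gam, tblPerm_eq tables_ok.1, tblPerm_eq tables_ok.2.1, ← map_mul]
  refine (congrArg Cfsg.Agent.H92.LeechTwo.permHom (Subtype.ext (Equiv.ext fun z => ?_))).trans (map_one Cfsg.Agent.H92.LeechTwo.permHom)
  show mkPerm sigI (mkPerm sigT z) = z
  apply idx_injective
  rw [idx_mkPerm (validT_of_inM24 tables_ok.2.1), idx_mkPerm (validT_of_inM24 tables_ok.1)]
  exact h _ (idx_lt z)

theorem gam_pow_tbl (k : Fin 7) : tblPerm (powList.getD k.1 0) = gam ^ k.1 := by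
  rw [gam, tblPerm_eq (pow_ok k).1, tblPerm_eq tables_ok.1, ← map_pow]
  refine congrArg Cfsg.Agent.H92.LeechTwo.permHom (Subtype.ext ?_)
  refine mkPerm_ext (validT_of_inM24 (pow_ok k).1) fun i => ?_
  rw [(pow_ok k).2 i, iterTbl_spec (validT_of_inM24 tables_ok.1) k.1 i.2]
  rfl

/-- the square is reached inside the cross stabiliser -/
theorem tau_conj : tblPerm tauT * gam = gam ^ 2 * tblPerm tauT := by
  have h := sig_order.2.2.2.1
  simp only [List.all_eq_true, List.mem_range, beq_iff_eq] at h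
  have v1 := validT_of_inM24 tables_ok.1
  have v3 := validT_of_inM24 tables_ok.2.2.1
  have v4 := validT_of_inM24 tables_ok.2.2.2
  obtain ⟨w1, e1⟩ := tblMul_spec v4 v1
  obtain ⟨w2, e2⟩ := tblMul_spec v3 v4
  have hsq : mkPerm sigSq = mkPerm sigT * mkPerm sigT := by
    refine mkPerm_ext v3 fun i => ?_
    rw [h i.1 i.2, Equiv.Perm.mul_apply, idx_mkPerm v1, idx_mkPerm v1, idx_pt _ i.2]
  rw [gam, tblPerm_eq tables_ok.2.2.2, tblPerm_eq tables_ok.1, pow_two, ← map_mul, ← map_mul, ← map_mul]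
  refine congrArg Cfsg.Agent.H92.LeechTwo.permHom (Subtype.ext ?_)
  show mkPerm tauT * mkPerm sigT = mkPerm sigT * mkPerm sigT * mkPerm tauT
  rw [← hsq, ← e1, ← e2]
  exact mkPerm_eq_of_tblEq w1 w2 sig_order.2.2.2.2

theorem gam_row (i : Fin 64) : gam • row i = row i := by
  refine Subtype.ext (funext fun q => ?_)
  obtain ⟨p, rfl⟩ := (mkPerm sigT).surjective q
  rw [gam, tblPerm_apply tables_ok.1]
  show rowF i.1 p = rowF i.1 (mkPerm sigT p)
  rw [mkPerm_apply (validT_of_inM24 tables_ok.1), row_fixed_fact i ⟨idx p, idx_lt p⟩, pt_idx]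

theorem row_dist {i j : Fin 64} (h : Cg (row i) (row j)) : i = j :=
  row_dist_fact i j (cg_iff_dblB.1 h)

theorem nrm_row_le (i : Fin 64) : nrm (row i) ≤ 64 := by
  show sqNorm (rowF i.1) ≤ 64
  rw [row_nrm_fact.1 i]; exact row_nrm_fact.2.1 i

theorem nrm_row_eq (i : Fin 64) : nrm (row i) = 64 ↔ 1 ≤ i.1 ∧ i.1 ≤ 14 := by
  show sqNorm (rowF i.1) = 64 ↔ _
  rw [row_nrm_fact.1 i]; exact row_nrm_fact.2.2 i

theorem row_one : row 1 = axisVec none := by
  refine Subtype.ext (funext fun p => ?_)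
  show rowF 1 p = (Pi.single none 8 : GolayPt → ℤ) p
  rw [← pt_idx p, axis_fact.1 ⟨idx p, idx_lt p⟩, pt_idx, Pi.single_apply]
  exact if_congr ⟨fun h => idx_injective h, fun h => by rw [h]; rfl⟩ rfl rfl

theorem row_zero : row 0 = 0 := Subtype.ext (funext axis_fact.2.1)

/-- every fixed class is a row -/
theorem fixed_cases {v : leechLattice} (hv : Cg (gam • v) v) : ∃ i, Cg v (row i) := by
  obtain ⟨i, hi⟩ := fixed_classes_list tables_ok.1 (by decide) gam_pow repList (by decide +kernel)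
    (fun i : Fin (2 ^ repList.length) => row ⟨i.1, i.2⟩) (fun i => gam_row _)
    (fun i j h => Fin.ext (congrArg Fin.val (row_dist h))) hv
  exact ⟨_, hi⟩

theorem fixed_row {v : leechLattice} {i : Fin 64} (h : Cg v (row i)) : Cg (gam • v) v := by
  have := Cg.smul gam h
  rw [gam_row] at this
  exact this.trans h.symm

/-! ### the words -/

theorem wordEl_mono_zero {T : ℕ} (h : inM24 T = true) : wordEl [.mono 0 0 T] = tblPerm T := by
  rw [wordEl, wordEl, one_mul]
  simp only [atomEl]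
  rw [dif_pos ⟨by decide +kernel, by norm_num, h⟩, tblPerm_eq h]
  refine (mul_eq_right).2 ?_
  refine co0_ext fun v => Subtype.ext (funext fun p => ?_)
  rw [signAut_apply, one_smul, if_neg (by rw [mem_ptSet, Nat.zero_testBit]; exact Bool.false_ne_true)]

theorem wordEl_app (u v : List Atom) : wordEl (u ++ v) = wordEl v * wordEl u := by
  induction u with
  | nil => rw [List.nil_append, wordEl, mul_one]
  | cons a r ih => rw [List.cons_append, wordEl, ih, wordEl, mul_assoc]

/-- the element of a word -/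
noncomputable def wEl (i : Fin 14) : Co0 := wordEl (wordList.getD i.1 [])

theorem wEl_axis (i : Fin 14) : Cg (wEl i • axisVec none) (row ⟨i.1 + 1, by omega⟩) := by
  obtain ⟨hok, -, h1, h2, h3⟩ := word_facts i
  have hA : inLeech (dec axA) = true ∧ inLeech (dec axB) = true := by decide +kernel
  have e : axisVec none = (⟨dec axA, mem_of_inLeech hA.1⟩ : leechLattice) + ⟨dec axB, mem_of_inLeech hA.2⟩ := by
    rw [← row_one]
    exact Subtype.ext (funext fun p => (axis_fact.2.2 p).symm)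
  rw [e, co0_smul_add, cg_iff_dblB]
  simp only [AddSubgroup.coe_add, Pi.add_apply, wEl]
  rw [chk_sound hok h1 (v := ⟨dec axA, mem_of_inLeech hA.1⟩) rfl,
    chk_sound hok h2 (v := ⟨dec axB, mem_of_inLeech hA.2⟩) rfl]
  exact h3

theorem wEl_comm (i : Fin 14) (hi : i.1 < 7) : wEl i * gam = gam * wEl i := by
  have h := eq_of_eqOK (word_facts i).2.1
  rw [if_pos hi, wordEl_app, wordEl_app, gW, wordEl_mono_zero tables_ok.1] at h
  exact h

theorem wEl_inv (i : Fin 14) (hi : 7 ≤ i.1) : wEl i * gam = gam⁻¹ * wEl i := by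
  have h := eq_of_eqOK (word_facts i).2.1
  rw [if_neg (by omega), wordEl_app, wordEl_app, gW, gI, wordEl_mono_zero tables_ok.1,
    wordEl_mono_zero tables_ok.2.1, gamI_eq] at h
  exact h

theorem gam_axis : gam • axisVec none = axisVec none := by rw [← row_one]; exact gam_row 1

/-- the centraliser -/
abbrev cz : Subgroup Co0 := Subgroup.centralizer ({gam} : Set Co0)

theorem mem_cz {g : Co0} : g ∈ cz ↔ g * gam = gam * g := Subgroup.mem_centralizer_singleton_iff

theorem class_cases {v : leechLattice} (hn : nrm v = 64) (hf : Cg (gam • v) v) :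
    ∃ i : Fin 14, Cg v (row ⟨i.1 + 1, by omega⟩) := by
  obtain ⟨i, hi⟩ := fixed_cases hf
  have hle := nrm_row_le i
  have h64 : nrm (row i) = 64 := by
    rcases short_unique hi (by omega) with h | h | ⟨h, -⟩
    · rw [h, hn]
    · rw [h, nrm_neg, hn]
    · omega
  obtain ⟨h1, h2⟩ := (nrm_row_eq i).1 h64
  refine ⟨⟨i.1 - 1, by omega⟩, ?_⟩
  rwa [show (⟨i.1 - 1 + 1, by omega⟩ : Fin 64) = i from Fin.ext (by
    show i.1 - 1 + 1 = i.1
    omega)]

theorem in_orbit {g : Co0} (hg : g ∈ cz) :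
    ∃ j : Fin 7, Cg (g • axisVec none) (row ⟨j.1 + 1, by omega⟩) := by
  have hf : Cg (gam • g • axisVec none) (g • axisVec none) := by
    rw [← mul_smul, ← mem_cz.1 hg, mul_smul, gam_axis]; exact Cg.refl _
  obtain ⟨i, hi⟩ := class_cases ((co0_sqNorm g _).trans (nrm_axis none)) hf
  by_cases h7 : i.1 < 7
  · exact ⟨⟨i.1, h7⟩, hi⟩
  exfalso
  set h := wEl i
  have hh := wEl_inv i (by omega)
  have hk : h⁻¹ * g ∈ crossStab := by
    rw [← classStab_axis, mem_classStab, mul_smul]
    have := Cg.smul h⁻¹ (hi.trans (wEl_axis i).symm)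
    rwa [inv_smul_smul] at this
  have hh' : h⁻¹ * gam = gam⁻¹ * h⁻¹ := by
    have e : gam * h = h * gam⁻¹ := by
      calc gam * h = gam * (h * gam) * gam⁻¹ := by group
        _ = gam * (gam⁻¹ * h) * gam⁻¹ := by rw [hh]
        _ = h * gam⁻¹ := by group
    calc h⁻¹ * gam = h⁻¹ * (gam * h) * h⁻¹ := by group
      _ = h⁻¹ * (h * gam⁻¹) * h⁻¹ := by rw [e]
      _ = gam⁻¹ * h⁻¹ := by group
  have hc : h⁻¹ * g * tblPerm sigT = tblPerm sigI * (h⁻¹ * g) := by
    rw [gamI_eq, ← gam, mul_assoc, mem_cz.1 hg, ← mul_assoc, hh', mul_assoc]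
  obtain ⟨T, hT, -⟩ := crossStab_conj noinv_ok hk hc
  simp at hT

/-! ### the linear map -/

/-- the class of a vector -/
def lin (x : V3) : leechLattice := row (lab x)

theorem lin_zero : lin 0 = 0 := by
  rw [lin, show lab 0 = 0 from Fin.ext lab_facts.2.2.2.2.2, row_zero]

theorem lin_e0 : lin (Pi.single 0 1) = axisVec none := by
  rw [lin, show lab (Pi.single 0 1) = 1 from Fin.ext lab_facts.2.2.2.2.1, row_one]

theorem lin_add (x y : V3) : Cg (lin x + lin y) (lin (x + y)) := cg_iff_dblB.2 (lab_facts.2.1 x y)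

theorem lin_inj {x y : V3} (h : Cg (lin x) (lin y)) : x = y := lab_facts.1 x y (row_dist h)

theorem exists_word {x : V3} (hx : x ≠ 0) : ∃ w ∈ cz, Cg (w • axisVec none) (lin x) := by
  rcases lab_facts.2.2.2.1 x with h | ⟨h1, h2⟩
  · exact absurd h hx
  · refine ⟨wEl ⟨(lab x).1 - 1, by omega⟩, mem_cz.2 (wEl_comm _ (by show (lab x).1 - 1 < 7; omega)), ?_⟩
    have := wEl_axis ⟨(lab x).1 - 1, by omega⟩
    rwa [show (⟨(lab x).1 - 1 + 1, by omega⟩ : Fin 64) = lab x from Fin.ext (by
      show (lab x).1 - 1 + 1 = (lab x).1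
      omega)] at this

theorem exists_image (g : cz) (x : V3) : ∃ y, Cg ((g : Co0) • lin x) (lin y) := by
  by_cases hx : x = 0
  · subst hx
    exact ⟨0, by rw [lin_zero, co0_smul_zero]; exact Cg.refl 0⟩
  obtain ⟨w, hw, hwx⟩ := exists_word hx
  obtain ⟨j, hj⟩ := in_orbit (mul_mem g.2 hw)
  obtain ⟨y, hy⟩ := lab_facts.2.2.1 j
  refine ⟨y, (Cg.smul (g : Co0) hwx.symm).trans ?_⟩
  rw [← mul_smul]
  refine hj.trans ?_
  rw [lin, show lab y = ⟨j.1 + 1, by omega⟩ from Fin.ext hy]
  exact Cg.refl _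

/-- the induced map -/
noncomputable def pim (g : cz) : V3 →ₗ[ZMod 2] V3 :=
  (AddMonoidHom.mk' (fun x => (exists_image g x).choose) fun x y => lin_inj (by
    refine (exists_image g (x + y)).choose_spec.symm.trans ?_
    refine (Cg.smul (g : Co0) (lin_add x y).symm).trans ?_
    rw [co0_smul_add]
    exact (cg_add (exists_image g x).choose_spec (exists_image g y).choose_spec).trans
      (lin_add _ _))).toZModLinearMap 2

theorem pim_spec (g : cz) (x : V3) : Cg ((g : Co0) • lin x) (lin (pim g x)) :=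
  (exists_image g x).choose_spec

theorem pim_mul (g h : cz) : pim (g * h) = (pim g).comp (pim h) := by
  refine LinearMap.ext fun x => lin_inj ?_
  refine (pim_spec (g * h) x).symm.trans ?_
  rw [Subgroup.coe_mul, mul_smul, LinearMap.comp_apply]
  exact (Cg.smul (g : Co0) (pim_spec h x)).trans (pim_spec g _)

theorem pim_one : pim 1 = LinearMap.id := by
  refine LinearMap.ext fun x => lin_inj ?_
  refine (pim_spec 1 x).symm.trans ?_
  rw [Subgroup.coe_one, one_smul]
  exact Cg.refl _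

/-- the special linear group -/
abbrev SL3 : Type := Matrix.SpecialLinearGroup (Fin 3) (ZMod 2)

theorem det_pim (g : cz) : (LinearMap.toMatrix' (pim g)).det = 1 := by
  have h := congrArg (fun f => (LinearMap.toMatrix' f).det) (pim_mul g g⁻¹)
  simp only [mul_inv_cancel, pim_one, LinearMap.toMatrix'_id, Matrix.det_one,
    LinearMap.toMatrix'_comp, Matrix.det_mul] at h
  have h2 : ∀ a b : ZMod 2, 1 = a * b → a = 1 := by decide
  exact h2 _ _ h

/-- the homomorphism -/
noncomputable def repSL : cz →* SL3 :=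
  MonoidHom.mk' (fun g => ⟨LinearMap.toMatrix' (pim g), det_pim g⟩) fun g h => Subtype.ext (by
    show LinearMap.toMatrix' (pim (g * h)) = LinearMap.toMatrix' (pim g) * LinearMap.toMatrix' (pim h)
    rw [pim_mul, LinearMap.toMatrix'_comp])

theorem repSL_apply (g : cz) (x : V3) : (repSL g).1 *ᵥ x = pim g x :=
  LinearMap.toMatrix'_mulVec _ _

theorem repSL_eq_one_of {g : cz} (h : ∀ x, Cg ((g : Co0) • lin x) (lin x)) : repSL g = 1 := by
  refine Subtype.ext ?_
  show LinearMap.toMatrix' (pim g) = 1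
  rw [show pim g = LinearMap.id from LinearMap.ext fun x => lin_inj ((pim_spec g x).symm.trans (h x)),
    LinearMap.toMatrix'_id]

theorem repSL_faith {g : cz} (h : ∀ v, Cg (gam • v) v → Cg ((g : Co0) • v) v) : repSL g = 1 :=
  repSL_eq_one_of fun x => h _ (fixed_row (Cg.refl (row (lab x))))

/-! ### monomial elements -/

theorem mono_apply {m : ℕ} (hm : m ∈ codeList) (b : Fin 42) (v : leechLattice) :
    ((sg m hm * tblPerm (centList.getD b.1 0)) • v : leechLattice).1 = monoF m (centInv.getD b.1 0) v.1 := by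
  obtain ⟨hT, hI, hi⟩ := inv_tables b
  funext p
  have h : mkPerm (centList.getD b.1 0) (pt (app (centInv.getD b.1 0) (idx p))) = p := by
    rw [mkPerm_pt (validT_of_inM24 hT) ((validT_bijective hI).2 _ (idx_lt p)), hi ⟨idx p, idx_lt p⟩, pt_idx]
  have e := tblPerm_apply hT v (pt (app (centInv.getD b.1 0) (idx p)))
  rw [h] at e
  rw [mul_smul, sg_apply, e]
  rfl

theorem center_cases {c : Co0} (hc : c ∈ Subgroup.center Co0) : (∀ v : leechLattice, c • v = v) ∨
    ∀ v : leechLattice, c • v = -v := by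
  obtain ⟨N, hN, hNv⟩ := exists_negation
  by_cases h1 : c = 1
  · exact Or.inl fun v => by rw [h1, one_smul]
  by_cases h2 : N = 1
  · exfalso
    have e := hNv (axisVec none)
    rw [h2, one_smul] at e
    have := congrArg (fun w : leechLattice => w.1 none) e
    simp [axisVec] at this
  obtain ⟨u, -, hu⟩ := (Nat.card_eq_two_iff' (1 : Subgroup.center Co0)).1 card_center_co0
  have e1 := hu ⟨c, hc⟩ fun e => h1 (congrArg Subtype.val e)
  have e2 := hu ⟨N, hN⟩ fun e => h2 (congrArg Subtype.val e)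
  rw [show c = N from congrArg Subtype.val (e1.trans e2.symm)]
  exact Or.inr hNv

theorem repSL_ker (g : cz) : repSL g = 1 ↔
    ∃ k : ℕ, (QuotientGroup.mk (g : Co0) : Spor.Co1) = QuotientGroup.mk gam ^ k := by
  constructor
  · intro h
    have hfix : ∀ x, Cg ((g : Co0) • lin x) (lin x) := fun x => by
      have := pim_spec g x
      rwa [← repSL_apply, h, Matrix.SpecialLinearGroup.coe_one, Matrix.one_mulVec] at this
    have hg : (g : Co0) ∈ crossStab := by
      rw [← classStab_axis, mem_classStab, ← lin_e0]; exact hfix _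
    obtain ⟨T, hT, m, hm, hfm, hgT⟩ := crossStab_conj cent_ok hg (mem_cz.1 g.2)
    obtain ⟨b, hb, rfl⟩ := List.mem_iff_getElem.1 hT
    have hm' : m ∈ fixCode := by
      have := List.all_eq_true.1 code_fixed.2.1 m hm
      simpa [hfm] using this
    obtain ⟨a, ha, ham⟩ := List.mem_iff_getElem.1 hm'
    subst ham
    rw [code_fixed.2.2.2] at hb
    rw [code_fixed.2.2.1] at ha
    rw [← List.getD_eq_getElem centList 0] at hgT
    have ham : fixCode[a] = fixCode.getD a 0 := (List.getD_eq_getElem fixCode 0 _).symm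
    have hchk := ker_check ⟨a, ha⟩ ⟨b, hb⟩ (by
      rw [List.all_eq_true]
      intro k hk
      have key : ∀ x : V3, (lab x).1 = k → dblB (fun p => monoF (fixCode.getD a 0) (centInv.getD b 0) (rowF k) p - rowF k p) = true := by
        intro x hx
        have h1 := cg_iff_dblB.1 (hfix x)
        rw [hgT, mono_apply hm ⟨b, hb⟩] at h1
        subst hx
        rw [List.getD_eq_getElem fixCode 0 (by rw [code_fixed.2.2.1]; exact ha)]
        exact h1
      obtain ⟨l1, l2, l4⟩ := label_one_two_four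
      simp only [List.mem_cons, List.not_mem_nil, or_false] at hk
      rcases hk with rfl | rfl | rfl
      exacts [key _ l1, key _ l2, key _ l4])
    obtain ⟨hm0, k, hk⟩ := hchk
    refine ⟨k.1, ?_⟩
    have hTk : tblPerm (centList.getD b 0) = gam ^ k.1 := by
      rw [← gam_pow_tbl, tblPerm_eq (inv_tables ⟨b, hb⟩).1, tblPerm_eq (pow_ok k).1]
      exact congrArg Cfsg.Agent.H92.LeechTwo.permHom (Subtype.ext (mkPerm_eq_of_tblEq (validT_of_inM24 (inv_tables ⟨b, hb⟩).1)
        (validT_of_inM24 (pow_ok k).1) hk))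
    rw [hgT, hTk, QuotientGroup.mk_mul, QuotientGroup.mk_pow, mul_eq_right, QuotientGroup.eq_one_iff]
    refine Subgroup.mem_center_iff.2 fun c => co0_ext fun v => ?_
    rw [mul_smul, mul_smul]
    simp only [← ham] at hm0
    rcases hm0 with e | e
    · have : ∀ w : leechLattice, sg (fixCode[a]) hm • w = w := fun w => Subtype.ext (funext fun i => by
        rw [sg_apply, e, Nat.zero_testBit]; simp)
      exact (congrArg (c • ·) (this v)).trans (this (c • v)).symm
    · have : ∀ w : leechLattice, sg (fixCode[a]) hm • w = -w := fun w => Subtype.ext (funext fun i => by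
        rw [sg_apply, e, show fullMask.testBit (idx i) = true by
          rw [← mem_ptSet, ptSet_fullMask]; exact Finset.mem_univ _]
        rfl)
      exact ((congrArg (c • ·) (this v)).trans (co0_smul_neg c v)).trans (this (c • v)).symm
  · rintro ⟨k, hk⟩
    refine repSL_eq_one_of fun x => ?_
    rw [← QuotientGroup.mk_pow, QuotientGroup.eq] at hk
    have hfixk : ∀ n : ℕ, gam ^ n • lin x = lin x := by
      intro n
      induction n with
      | zero => rw [pow_zero, one_smul]
      | succ n ih => rw [pow_succ, mul_smul, lin, gam_row]; exact ih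
    set c := ((g : Co0))⁻¹ * gam ^ k with hc
    have hg : (g : Co0) = gam ^ k * c⁻¹ := by rw [hc]; group
    rcases center_cases (inv_mem hk) with hh | hh <;> rw [hg, mul_smul, hh]
    · rw [hfixk]; exact Cg.refl _
    · rw [co0_smul_neg, hfixk]; exact Cg.neg_self _

theorem stab_real {x y : V3} (hx : x ≠ 0) (hx1 : x ≠ Pi.single 0 1) (hy : y ≠ 0) (hy1 : y ≠ Pi.single 0 1)
    (hyx : y ≠ x) (hyx1 : y ≠ Pi.single 0 1 + x) :
    ∃ a : Fin 8, ∃ b : Fin 42,
      dblB (fun p => monoF (fixCode.getD a.1 0) (centInv.getD b.1 0) (rowF 1) p - rowF 1 p) = true ∧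
      dblB (fun p => monoF (fixCode.getD a.1 0) (centInv.getD b.1 0) (rowF 2) p - rowF (lab x).1 p) = true ∧
      dblB (fun p => monoF (fixCode.getD a.1 0) (centInv.getD b.1 0) (rowF 4) p - rowF (lab y).1 p) = true := by
  obtain ⟨hlt, h0, h1, hxor⟩ := lab_small
  have two : ∀ v : V3, v ≠ 0 → v ≠ Pi.single 0 1 → 2 ≤ (lab v).1 := by
    intro v hv hv1
    by_contra hc
    rcases (show (lab v).1 = 0 ∨ (lab v).1 = 1 by omega) with e | e
    · exact hv (h0 v (Fin.ext e))
    · exact hv1 (h1 v (Fin.ext e))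
  obtain ⟨ha, hall⟩ := stab_wit ⟨(lab x).1, hlt x⟩ ⟨(lab y).1, hlt y⟩ (two x hx hx1) (two y hy hy1)
    (fun e => hyx (lab_facts.1 y x (Fin.ext (Fin.mk.inj e))))
    (fun e => hyx1 (lab_facts.1 _ _ (Fin.ext (e.trans (hxor x).symm))))
  simp only [List.all_cons, List.all_nil, Bool.and_true, Bool.and_eq_true] at hall
  exact ⟨⟨_, ha⟩, ⟨_, Nat.mod_lt _ (by norm_num)⟩, hall.1, hall.2.1, hall.2.2⟩

theorem repSL_surjective : Function.Surjective repSL := by
  intro A
  have hinj : ∀ (B : SL3) {x y : V3}, B.1 *ᵥ x = B.1 *ᵥ y → x = y := fun B x y h => by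
    have h' := congrArg ((B⁻¹ : SL3).1 *ᵥ ·) h
    simpa only [Matrix.mulVec_mulVec, ← Matrix.SpecialLinearGroup.coe_mul, inv_mul_cancel,
      Matrix.SpecialLinearGroup.coe_one, Matrix.one_mulVec] using h'
  obtain ⟨f0, f1, f2, f10, f20, f21, f201⟩ := single_facts
  obtain ⟨w, hw, hwx⟩ := exists_word (x := A.1 *ᵥ Pi.single 0 1) fun h => f0 (hinj A (h.trans (Matrix.mulVec_zero _).symm))
  set W := repSL ⟨w, hw⟩
  have hW : W.1 *ᵥ Pi.single 0 1 = A.1 *ᵥ Pi.single 0 1 := by
    refine (repSL_apply ⟨w, hw⟩ _).trans (lin_inj ((pim_spec ⟨w, hw⟩ _).symm.trans ?_))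
    rw [lin_e0]; exact hwx
  set A' := W⁻¹ * A with hA'
  have hA0 : A'.1 *ᵥ Pi.single 0 1 = Pi.single 0 1 := by
    apply hinj W
    rw [Matrix.mulVec_mulVec, ← Matrix.SpecialLinearGroup.coe_mul, hA', mul_inv_cancel_left, hW]
  obtain ⟨a, b, c1, c2, c4⟩ := stab_real (x := A'.1 *ᵥ Pi.single 1 1) (y := A'.1 *ᵥ Pi.single 2 1)
    (fun h => f1 (hinj A' (h.trans (Matrix.mulVec_zero _).symm)))
    (fun h => f10 (hinj A' (h.trans hA0.symm)))
    (fun h => f2 (hinj A' (h.trans (Matrix.mulVec_zero _).symm)))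
    (fun h => f20 (hinj A' (h.trans hA0.symm)))
    (fun h => f21 (hinj A' h))
    (fun h => f201 (hinj A' (by rw [h, Matrix.mulVec_add, hA0])))
  obtain ⟨hmc, hmf⟩ := code_fixed.1 a
  have hmc' := inCode_iff.1 hmc
  have hTmem : centList.getD b.1 0 ∈ centList := by
    rw [List.getD_eq_getElem centList 0 (by rw [code_fixed.2.2.2]; exact b.2)]
    exact List.getElem_mem _
  set k : Co0 := sg _ hmc' * tblPerm (centList.getD b.1 0) with hkdef
  have hk : k ∈ cz := by
    have e1 := sg_comm tables_ok.1 hmc' hmf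
    have e2 := tblPerm_conj cent_ok hTmem
    rw [mem_cz, hkdef, gam, mul_assoc, e2, ← mul_assoc, e1, mul_assoc]
  refine ⟨⟨w, hw⟩ * ⟨k, hk⟩, ?_⟩
  rw [map_mul]
  show W * repSL ⟨k, hk⟩ = A
  suffices repSL ⟨k, hk⟩ = A' by rw [this, hA', mul_inv_cancel_left]
  refine Subtype.ext (Matrix.ext_of_mulVec_single fun i => ?_)
  rw [repSL_apply]
  refine lin_inj ((pim_spec ⟨k, hk⟩ _).symm.trans ?_)
  obtain ⟨l1, l2, l4⟩ := label_one_two_four
  have hkv : ∀ x y : V3, dblB (fun p => monoF (fixCode.getD a.1 0) (centInv.getD b.1 0) (rowF (lab x).1) p - rowF (lab y).1 p) = true →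
      Cg (k • lin x) (lin y) := by
    intro x y h
    rw [cg_iff_dblB, hkdef, mono_apply hmc' b]
    exact h
  fin_cases i
  · exact hkv _ _ (by
      show dblB (fun p => monoF _ _ (rowF (lab (Pi.single 0 1)).1) p - rowF (lab (A'.1 *ᵥ Pi.single 0 1)).1 p) = true
      rw [hA0, l1]; exact c1)
  · exact hkv _ _ (by
      show dblB (fun p => monoF _ _ (rowF (lab (Pi.single 1 1)).1) p - rowF (lab (A'.1 *ᵥ Pi.single 1 1)).1 p) = true
      rw [l2]; exact c2)
  · exact hkv _ _ (by
      show dblB (fun p => monoF _ _ (rowF (lab (Pi.single 2 1)).1) p - rowF (lab (A'.1 *ᵥ Pi.single 2 1)).1 p) = true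
      rw [l4]; exact c4)

/-- the linear group has no normal subgroup of 2-power order -/
theorem two_normal_bot (N : Subgroup SL3) (hN : N.Normal) (hp : IsPGroup 2 N) : N = ⊥ := by
  classical
  haveI : Fact (Nat.Prime 2) := ⟨Nat.prime_two⟩
  let S := {v : V3 // v ≠ 0}
  letI : MulAction N S :=
    { smul := fun n v => ⟨n.1.1 *ᵥ v.1, fun h => v.2 (by
        have h' := congrArg ((n.1⁻¹ : SL3).1 *ᵥ ·) h
        simpa only [Matrix.mulVec_mulVec, ← Matrix.SpecialLinearGroup.coe_mul, inv_mul_cancel,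
          Matrix.SpecialLinearGroup.coe_one, Matrix.one_mulVec, Matrix.mulVec_zero] using h')⟩
      one_smul := fun v => Subtype.ext (Matrix.one_mulVec v.1)
      mul_smul := fun n m v => Subtype.ext (by
        show (n * m).1.1 *ᵥ v.1 = n.1.1 *ᵥ (m.1.1 *ᵥ v.1)
        rw [Matrix.mulVec_mulVec]; rfl) }
  have hS : ¬ 2 ∣ Nat.card S := by
    rw [Nat.card_eq_fintype_card, Fintype.card_subtype_compl, Fintype.card_fun, ZMod.card, Fintype.card_fin,
      Fintype.card_unique]
    norm_num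
  obtain ⟨v0, hv0⟩ := hp.nonempty_fixed_point_of_prime_not_dvd_card S hS
  rw [eq_bot_iff]
  intro n hn
  have hA : ∀ x : V3, x ≠ 0 → ∃ A : SL3, A.1 *ᵥ Pi.single 0 1 = x := fun x hx => by
    obtain ⟨w, hw, hwx⟩ := exists_word hx
    exact ⟨repSL ⟨w, hw⟩, (repSL_apply _ _).trans (lin_inj ((pim_spec ⟨w, hw⟩ _).symm.trans
      (by rw [lin_e0]; exact hwx)))⟩
  obtain ⟨A0, hA0⟩ := hA v0.1 v0.2
  have hall : ∀ x : V3, x ≠ 0 → n.1 *ᵥ x = x := by
    intro x hx
    obtain ⟨A, hAx⟩ := hA x hx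
    set c := A * A0⁻¹ with hc
    have hcx : c.1 *ᵥ v0.1 = x := by
      rw [← hA0, Matrix.mulVec_mulVec, ← Matrix.SpecialLinearGroup.coe_mul, hc, inv_mul_cancel_right, hAx]
    have hfix : (c⁻¹ * n * c).1 *ᵥ v0.1 = v0.1 :=
      congrArg Subtype.val (hv0 ⟨c⁻¹ * n * c, by simpa using hN.conj_mem n hn c⁻¹⟩)
    have e := congrArg (c.1 *ᵥ ·) hfix
    simp only [Matrix.mulVec_mulVec, ← Matrix.SpecialLinearGroup.coe_mul, hcx] at e
    rw [show c * (c⁻¹ * n * c) = n * c by group, Matrix.SpecialLinearGroup.coe_mul, ← Matrix.mulVec_mulVec, hcx] at e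
    exact e
  rw [Subgroup.mem_bot]
  refine Subtype.ext (Matrix.ext_of_mulVec_single fun i => ?_)
  rw [Matrix.SpecialLinearGroup.coe_one, Matrix.one_mulVec]
  refine hall _ ?_
  intro h
  have := congrFun h i
  simp at this

end Cfsg.Agent.H74.Monster.SevenCent
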