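import Cfsg.Agent.H41.CoSec.Basic
import Cfsg.Agent.H74.Monster.FixLattice
import Cfsg.Agent.H74.Monster.SevenData

/-!
Definitions for the checks of the centraliser of an element of order seven.
-/

set_option autoImplicit false

namespace Cfsg.Agent.H74.Monster.SevenCent

open Cfsg Cfsg.Agent.Golay Cfsg.Agent.H92.LeechTwo Cfsg.Agent.H92.LeechOrbit
open Cfsg.Agent.H74.Monster.SevenData
open Cfsg.Agent.H41.CoSec (eqOK eq_of_eqOK run)

/-- coordinates of a row -/
def rowF (i : ℕ) : GolayPt → ℤ := fun p => (rowList.getD i []).getD (idx p) 0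

/-- coordinates of the image under a monomial element -/
def monoF (m Ti : ℕ) (v : GolayPt → ℤ) : GolayPt → ℤ :=
  fun p => if m.testBit (idx p) then -v (pt (app Ti (idx p))) else v (pt (app Ti (idx p)))

/-- the word of the element -/
def gW : List Atom := [.mono 0 0 sigT]

/-- the word of the inverse -/
def gI : List Atom := [.mono 0 0 sigI]

/-- the space -/
abbrev V3 : Type := Fin 3 → ZMod 2

/-- the label of a vector -/
def lab (x : V3) : Fin 64 :=
  ⟨(x 0).val + 2 * (x 1).val + 4 * (x 2).val, by
    have h : ∀ a : ZMod 2, a.val ≤ 1 := by decide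
    have := h (x 0); have := h (x 1); have := h (x 2)
    omega⟩

end Cfsg.Agent.H74.Monster.SevenCent
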