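import Cfsg.Agent.H74.Monster.OddCent
import Cfsg.Agent.H74.Monster.SevenCent

/-!
In a group of Monster type the centraliser of an element of order seven of the joint centraliser
of two commuting conjugates of the central involution, modulo it, is of Held type.
-/

set_option autoImplicit false
set_option maxHeartbeats 1000000

namespace Cfsg.Agent.H74.Monster.SevenCent

open Cfsg Cfsg.Agent.Golay Cfsg.Agent.H92.LeechTwo Cfsg.Agent.H92.MonsterQ
open Cfsg.Agent.H65.MonsterFive (phi phi_eq_one joint_image joint_le)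

section Generic

variable {G : Type*} [Group G] [Finite G]

/-- two elements of prime order in a group whose order is not divisible by the square of the prime -/
theorem conj_zpowers_prime {p : ℕ} [Fact p.Prime] {L : Subgroup G} (hsq : ¬ p * p ∣ Nat.card L) {b c : G}
    (hb : b ∈ L) (hc : c ∈ L) (hbp : orderOf b = p) (hcp : orderOf c = p) :
    ∃ l ∈ L, l * c * l⁻¹ ∈ Subgroup.zpowers b := by
  have mk : ∀ d : L, orderOf (d : G) = p → ∃ P : Sylow p L, (P : Subgroup L) = Subgroup.zpowers d := by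
    intro d hd
    rw [Subgroup.orderOf_coe] at hd
    have hp : IsPGroup p (Subgroup.zpowers d) :=
      IsPGroup.of_card (n := 1) (by rw [Nat.card_zpowers, hd, pow_one])
    have hi : ¬ p ∣ (Subgroup.zpowers d).index := fun h => by
      apply hsq
      have := (Subgroup.zpowers d).card_mul_index
      rw [Nat.card_zpowers, hd] at this
      rw [← this]
      exact Nat.mul_dvd_mul_left p h
    exact ⟨hp.toSylow hi, rfl⟩
  obtain ⟨P, hP⟩ := mk ⟨b, hb⟩ hbp
  obtain ⟨R, hR⟩ := mk ⟨c, hc⟩ hcp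
  obtain ⟨l, hl⟩ := MulAction.exists_smul_eq L R P
  refine ⟨l.1, l.2, ?_⟩
  have h1 : (⟨c, hc⟩ : L) ∈ (R : Subgroup L) := hR ▸ Subgroup.mem_zpowers _
  have h2 : MulAut.conj l ⟨c, hc⟩ ∈ (P : Subgroup L) := by
    rw [← hl, Sylow.coe_subgroup_smul]
    exact Subgroup.smul_mem_pointwise_smul _ _ _ h1
  rw [hP] at h2
  obtain ⟨i, hi⟩ := Subgroup.mem_zpowers_iff.1 h2
  exact Subgroup.mem_zpowers_iff.2 ⟨i, congrArg (fun u : L => (u : G)) hi⟩

end Generic

theorem seven_prime : Nat.Prime 7 := by norm_num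

variable {G : Type*} [Group G] [Finite G] {z : G}
  {Q : Subgroup (Subgroup.centralizer ({z} : Set G))} [Q.Normal]
  {e : (Subgroup.centralizer ({z} : Set G)) ⧸ Q ≃* Spor.Co1}
  {ψ : leechLattice → Q ⧸ Subgroup.center Q}

/-- exactly 29 conjugates of the central involution in the centraliser of the seven element -/
theorem held_count (S : Setting z Q e ψ) {x : Q} (hx : ψ (axisVec none) = QuotientGroup.mk x)
    {b : G} (hb : b ^ 7 = 1) (hbz : b ∈ Subgroup.centralizer ({z} : Set G))
    (hbs : b * vG x = vG x * b) (hbe : phi e ⟨b, hbz⟩ = QuotientGroup.mk gam) :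
    Set.ncard {u : G | u ∈ qm Q ∧ ∃ g : G, g * b = b * g ∧ g * z * g⁻¹ = u} = 29 := by
  classical
  haveI : Fact (Nat.Prime 7) := ⟨seven_prime⟩
  obtain ⟨zQ, hzv, hz1, hz2, hZ⟩ := exists_zQ S
  obtain ⟨hzQm, -⟩ := map_setting S
  have hbz' : b * z = z * b := Subgroup.mem_centralizer_singleton_iff.1 hbz
  have hzne : z ≠ 1 := fun h => hz1 (vG_injective (hzv.trans h))
  have hbC' : (⟨b, hbz⟩ : Subgroup.centralizer ({z} : Set G)) ^ 7 = 1 := Subtype.ext hb
  obtain ⟨hxc, hxz⟩ := isConj_of_type S hx (nrm_axis none)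
  obtain ⟨y, u, hyb, hyz, -, hub, hus⟩ := exists_pair_movers S hxc hxz (p := 7) (by norm_num) hb hbz' hbs
  have hgam6 : gam⁻¹ = gam ^ 6 :=
    inv_eq_of_mul_eq_one_right (by rw [← pow_succ', gam_pow])
  have hlift : ∀ i : Fin 14, ∃ h : Subgroup.centralizer ({z} : Set G),
      phi e h = QuotientGroup.mk (wEl i) ∧ ∀ a : G, a * b = b * a →
        ((h : G) * a * (h : G)⁻¹) * b = b * ((h : G) * a * (h : G)⁻¹) := by
    intro i
    obtain ⟨j, k, hjk, hj⟩ : ∃ j k : ℕ, (b ^ j) ^ k = b ∧
        wEl i * gam = gam ^ j * wEl i := by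
      by_cases hi : i.1 < 7
      · exact ⟨1, 1, by simp, by rw [pow_one]; exact wEl_comm i hi⟩
      · refine ⟨6, 6, ?_, by rw [← hgam6]; exact wEl_inv i (by omega)⟩
        rw [← pow_mul, show 6 * 6 = 7 * 5 + 1 by norm_num, pow_add, pow_mul, hb, one_pow, one_mul, pow_one]
    obtain ⟨h, hh, hhb⟩ := exists_norm_lift S (p := 7) (by norm_num) (g := wEl i) hbC' hbe (j := j) (by
      rw [← QuotientGroup.mk_pow, ← QuotientGroup.mk_mul, ← QuotientGroup.mk_mul, hj])
    refine ⟨h, hh, fun a ha => commute_of_pow hjk ?_⟩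
    have e1 : (h : G) * b * (h : G)⁻¹ = b ^ j := by
      have := congrArg (fun u : Subgroup.centralizer ({z} : Set G) => (u : G)) hhb
      simpa only [Subgroup.coe_mul, Subgroup.coe_inv, Subgroup.coe_pow] using this
    rw [← e1]
    calc (h : G) * a * (h : G)⁻¹ * ((h : G) * b * (h : G)⁻¹) = (h : G) * (a * b) * (h : G)⁻¹ := by group
      _ = (h : G) * (b * a) * (h : G)⁻¹ := by rw [ha]
      _ = (h : G) * b * (h : G)⁻¹ * ((h : G) * a * (h : G)⁻¹) := by group
  choose h hh hhc using hlift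
  set q : Fin 14 → Q := fun i => conjQ (h i) x with hq
  have hclass : ∀ i, ψ (row ⟨i.1 + 1, by omega⟩) = QuotientGroup.mk (q i) := fun i => by
    rw [← (psi_cg S).2 (wEl_axis i)]
    exact psi_smul S (hh i).symm hx
  have hqv : ∀ i, vG (q i) = (h i : G) * vG x * (h i : G)⁻¹ := fun i => rfl
  have hhz : ∀ i, (h i : G) * z * (h i : G)⁻¹ = z := fun i => by
    rw [Subgroup.mem_centralizer_singleton_iff.1 (h i).2, mul_inv_cancel_right]
  have hhz' : ∀ i, (h i : G)⁻¹ * z * (h i : G) = z := fun i => by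
    rw [mul_assoc, ← Subgroup.mem_centralizer_singleton_iff.1 (h i).2, inv_mul_cancel_left]
  have hvz : ∀ r : Q, vG (zQ * r) = z * vG r := fun r => congrArg (· * vG r) hzv
  let F : Option (Fin 14 × Bool) → G := fun o => match o with
    | none => z
    | some (i, false) => vG (q i)
    | some (i, true) => z * vG (q i)
  have hrange : {w : G | w ∈ qm Q ∧ ∃ g : G, g * b = b * g ∧ g * z * g⁻¹ = w} = Set.range F := by
    ext w
    constructor
    · rintro ⟨hw, g, hg, hgw⟩
      by_cases hwz : w = z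
      · exact ⟨none, hwz.symm⟩
      obtain ⟨r, rfl⟩ := mem_qm.1 hw
      obtain ⟨v, hv, hn⟩ := conj_z_type S (x := r) (isConj_iff.2 ⟨g, hgw⟩) hwz
      have hrb : b * vG r = vG r * b := by
        have hcz : Commute b z := hbz'
        have hcg : Commute b g := hg.symm
        rw [← hgw]
        exact ((hcg.mul_right hcz).mul_right hcg.inv_right).eq
      have hf : Cg (gam • v) v := by
        refine (psi_cg S).1 ?_
        have e1 := psi_smul S (g := gam) (h := ⟨b, hbz⟩) hbe.symm hv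
        rwa [show conjQ (⟨b, hbz⟩ : Subgroup.centralizer ({z} : Set G)) r = r from vG_injective (by
          show b * vG r * b⁻¹ = vG r
          rw [hrb, mul_inv_cancel_right]), ← hv] at e1
      obtain ⟨i, hi⟩ := class_cases hn hf
      have e2 : (QuotientGroup.mk (q i) : Q ⧸ Subgroup.center Q) = QuotientGroup.mk r := by
        rw [← hclass i, ← (psi_cg S).2 hi, hv]
      rcases (hZ _).1 (QuotientGroup.eq.1 e2) with e3 | e3
      · exact ⟨some (i, false), congrArg vG (inv_mul_eq_one.1 e3)⟩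
      · refine ⟨some (i, true), ?_⟩
        have e4 := inv_mul_eq_iff_eq_mul.1 e3
        rw [Subgroup.mem_center_iff.1 ((hZ zQ).2 (Or.inr rfl))] at e4
        show z * vG (q i) = vG r
        rw [e4, hvz]
    · rintro ⟨o, rfl⟩
      rcases o with - | ⟨i, c⟩
      · exact ⟨hzQm, 1, by simp, by simp [F]⟩
      cases c
      · refine ⟨mem_qm.2 ⟨q i, rfl⟩, (h i : G) * (u⁻¹ * y) * (h i : G)⁻¹, hhc i _ ?_, ?_⟩
        · exact ((show Commute u b from hub).inv_left.mul_left hyb).eq
        · show _ = (h i : G) * vG x * (h i : G)⁻¹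
          calc (h i : G) * (u⁻¹ * y) * (h i : G)⁻¹ * z * ((h i : G) * (u⁻¹ * y) * (h i : G)⁻¹)⁻¹
              = (h i : G) * (u⁻¹ * y) * ((h i : G)⁻¹ * z * (h i : G)) * (u⁻¹ * y)⁻¹ * (h i : G)⁻¹ := by group
            _ = (h i : G) * (u⁻¹ * y) * z * (u⁻¹ * y)⁻¹ * (h i : G)⁻¹ := by
              rw [hhz' i]
            _ = (h i : G) * (u⁻¹ * (y * z * y⁻¹) * u) * (h i : G)⁻¹ := by group
            _ = (h i : G) * vG x * (h i : G)⁻¹ := by rw [hyz, ← hus]; group
      · refine ⟨mul_mem hzQm (mem_qm.2 ⟨q i, rfl⟩), (h i : G) * y * (h i : G)⁻¹, hhc i _ hyb, ?_⟩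
        show _ = z * ((h i : G) * vG x * (h i : G)⁻¹)
        calc (h i : G) * y * (h i : G)⁻¹ * z * ((h i : G) * y * (h i : G)⁻¹)⁻¹
            = (h i : G) * y * ((h i : G)⁻¹ * z * (h i : G)) * y⁻¹ * (h i : G)⁻¹ := by group
          _ = (h i : G) * y * z * y⁻¹ * (h i : G)⁻¹ := by
              rw [hhz' i]
          _ = (h i : G) * (y * z * y⁻¹) * (h i : G)⁻¹ := by group
          _ = (h i : G) * z * (h i : G)⁻¹ * ((h i : G) * vG x * (h i : G)⁻¹) := by rw [hyz]; group
          _ = z * ((h i : G) * vG x * (h i : G)⁻¹) := by rw [hhz i]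
  rw [hrange, Set.ncard_range_of_injective]
  · simp
  have hne0 : ∀ i, vG (q i) ≠ z ∧ vG (q i) ≠ 1 := by
    intro i
    have hne : ∀ r : Q, r ∈ Subgroup.center Q → q i ≠ r := by
      intro r hr he
      have e1 := hclass i
      rw [he, (QuotientGroup.eq_one_iff r).2 hr, ← psi_zero S, psi_cg S, ← row_zero] at e1
      exact absurd (congrArg Fin.val (row_dist e1)) (Nat.succ_ne_zero i.1)
    exact ⟨fun e1 => hne zQ ((hZ _).2 (Or.inr rfl)) (vG_injective (e1.trans hzv.symm)),
      fun e1 => hne 1 (one_mem _) (vG_injective e1)⟩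
  have hzi : ∀ i j, vG (q i) = z * vG (q j) → i = j := by
    intro i j hij
    have e1 : q i = zQ * q j := vG_injective (hij.trans (hvz _).symm)
    have e2 : ψ (row ⟨i.1 + 1, by omega⟩) = ψ (row ⟨j.1 + 1, by omega⟩) := by
      rw [hclass, hclass, e1, QuotientGroup.mk_mul, (QuotientGroup.eq_one_iff zQ).2 ((hZ _).2 (Or.inr rfl)),
        one_mul]
    have e3 := congrArg Fin.val (row_dist ((psi_cg S).1 e2))
    simp only at e3
    exact Fin.ext (by omega)
  have hqi : ∀ i j, vG (q i) = vG (q j) → i = j := by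
    intro i j hij
    have e2 : ψ (row ⟨i.1 + 1, by omega⟩) = ψ (row ⟨j.1 + 1, by omega⟩) := by
      rw [hclass, hclass, vG_injective hij]
    have e3 := congrArg Fin.val (row_dist ((psi_cg S).1 e2))
    simp only at e3
    exact Fin.ext (by omega)
  rintro (- | ⟨i, ci⟩) (- | ⟨j, cj⟩) hij
  · rfl
  · cases cj
    · exact absurd hij.symm (hne0 j).1
    · exact absurd (left_eq_mul.1 hij) (hne0 j).2
  · cases ci
    · exact absurd hij (hne0 i).1
    · exact absurd (mul_eq_left.1 hij) (hne0 i).2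
  · cases ci <;> cases cj
    · rw [hqi i j hij]
    · obtain rfl := hzi i j hij
      exact absurd (right_eq_mul.1 hij) hzne
    · obtain rfl := hzi j i hij.symm
      exact absurd (mul_eq_right.1 hij) hzne
    · rw [hqi i j (mul_left_cancel hij)]

/-- the centraliser of the seven element modulo it is of Held type -/
theorem held_type (S : Setting z Q e ψ) {x : Q} (hx : ψ (axisVec none) = QuotientGroup.mk x)
    {b : G} (hb : orderOf b = 7) (hbz : b ∈ Subgroup.centralizer ({z} : Set G))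
    (hbs : b * vG x = vG x * b) (hbe : phi e ⟨b, hbz⟩ = QuotientGroup.mk gam)
    [((Subgroup.zpowers b).subgroupOf (Subgroup.centralizer (Subgroup.zpowers b : Set G))).Normal] :
    IsOfHeldType (↥(Subgroup.centralizer (Subgroup.zpowers b : Set G)) ⧸
      (Subgroup.zpowers b).subgroupOf (Subgroup.centralizer (Subgroup.zpowers b : Set G))) := by
  haveI : Fact (Nat.Prime 7) := ⟨seven_prime⟩
  obtain ⟨hxc, hxz⟩ := isConj_of_type S hx (nrm_axis none)
  obtain ⟨zb, R, hR, hset, hiso, hcard⟩ := odd_centralizer S hxc hxz (p := 7) (by norm_num) hb hbz hbs hbe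
    gam_pow repSL repSL_surjective repSL_ker (fun _ h => repSL_faith h) two_normal_bot (w := 3) (by norm_num)
    (fun i : Fin (2 ^ (2 * 3)) => row ⟨i.1, i.2⟩)
    (fun i => fixed_row (Cg.refl _))
    (fun i j h => Fin.ext (congrArg Fin.val (row_dist h) :))
    (fun v hv => by
      obtain ⟨i, hi⟩ := fixed_cases hv
      exact ⟨⟨i.1, i.2⟩, hi⟩)
  exact ⟨zb, R, hR, hset, hiso,
    hcard.trans (held_count S hx (hb ▸ pow_orderOf_eq_one b) hbz hbs hbe)⟩

theorem gam_mem : gam ∈ crossStab := tblPerm_mem tables_ok.1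

theorem crossStab_seven : ¬ 7 * 7 ∣ Nat.card crossStab := by
  rw [card_crossStab]; norm_num

theorem joint_seven (S : Setting z Q e ψ) {x : Q} (hx : ψ (axisVec none) = QuotientGroup.mk x) :
    7 ∣ Nat.card (Subgroup.centralizer ({z, vG x} : Set G)) ∧
      ¬ 49 ∣ Nat.card (Subgroup.centralizer ({z, vG x} : Set G)) := by
  set L := Subgroup.centralizer ({z, vG x} : Set G)
  have h1 := Cfsg.Agent.H92.MonsterCross.card_map_mul (phi e) (L.subgroupOf (Subgroup.centralizer ({z} : Set G)))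
  rw [joint_image S hx, Cfsg.Agent.H92.MonsterCross.card_subgroupOf (joint_le x)] at h1
  have h2 := Cfsg.Agent.H92.MonsterCross.card_map_mul (QuotientGroup.mk' (Subgroup.center Co0)) crossStab
  rw [QuotientGroup.ker_mk', inf_eq_right.2 (center_le_crossStab.trans signs_le), card_center_co0,
    card_crossStab] at h2
  have hker : Nat.card ↥(L.subgroupOf (Subgroup.centralizer ({z} : Set G)) ⊓ (phi e).ker) ∣ 2 ^ 25 := by
    rw [← S.setting.2.2.2.1]
    exact Subgroup.card_dvd_of_le (fun h hh => phi_eq_one.1 (MonoidHom.mem_ker.1 hh.2))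
  obtain ⟨k, hk, hk'⟩ := (Nat.dvd_prime_pow Nat.prime_two).1 hker
  rw [hk'] at h1
  have h3 : Nat.card ↥(crossStab.map (QuotientGroup.mk' (Subgroup.center Co0))) = 7 * 71628226560 := by omega
  rw [← h1, h3]
  refine ⟨(dvd_mul_right 7 _).trans (dvd_mul_right _ _), fun h => ?_⟩
  have h4 : 49 ∣ 7 * 71628226560 :=
    (Nat.Coprime.pow_right k (by norm_num : Nat.Coprime 49 2)).dvd_of_dvd_mul_right h
  norm_num at h4

end Cfsg.Agent.H74.Monster.SevenCent
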